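import Mathlib

set_option autoImplicit false

namespace Cfsg.Agent.Lib.Helper54.Zass

open MulAction

variable {G Ω : Type*} [Group G] [MulAction G Ω]

theorem two_trans (h2 : IsMultiplyPretransitive G Ω 2) {a b c d : Ω} (hab : a ≠ b) (hcd : c ≠ d) :
    ∃ g : G, g • a = c ∧ g • b = d :=
  (is_two_pretransitive_iff (G := G) (α := Ω)).mp h2 hab hcd

theorem stab_pair (a b : Ω) : stabilizer G ((a, b) : Ω × Ω) = stabilizer G a ⊓ stabilizer G b := by
  ext g
  simp [mem_stabilizer_iff, Prod.ext_iff]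

/-- all two point stabilisers have the same order -/
theorem card_stab2_eq (h2 : IsMultiplyPretransitive G Ω 2) {a b c d : Ω} (hab : a ≠ b)
    (hcd : c ≠ d) :
    Nat.card ↥(stabilizer G c ⊓ stabilizer G d) = Nat.card ↥(stabilizer G a ⊓ stabilizer G b) := by
  obtain ⟨g, h1, h2'⟩ := two_trans h2 hab hcd
  rw [← stab_pair, ← stab_pair]
  have : ((c, d) : Ω × Ω) = g • ((a, b) : Ω × Ω) := by simp [h1, h2']
  exact (Nat.card_congr (stabilizerEquivStabilizer this).toEquiv).symm

theorem orbit_pair (h2 : IsMultiplyPretransitive G Ω 2) {a b : Ω} (hab : a ≠ b) :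
    orbit G ((a, b) : Ω × Ω) = {x : Ω × Ω | x.1 ≠ x.2} := by
  ext ⟨c, d⟩
  constructor
  · rintro ⟨g, hg⟩
    simp only [Prod.smul_mk, Prod.mk.injEq] at hg
    simp only [Set.mem_ofPred_eq]
    rw [← hg.1, ← hg.2]
    exact fun h => hab (smul_left_cancel g h)
  · intro hcd
    obtain ⟨g, h1, h2'⟩ := two_trans h2 hab hcd
    exact ⟨g, by simp [h1, h2']⟩

theorem card_offdiag [Fintype Ω] :
    Nat.card {x : Ω × Ω | x.1 ≠ x.2} = Fintype.card Ω * (Fintype.card Ω - 1) := by
  classical
  have : {x : Ω × Ω | x.1 ≠ x.2} = ((Finset.univ : Finset Ω).offDiag : Set (Ω × Ω)) := by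
    ext x; simp
  rw [this, Nat.card_coe_set_eq, Set.ncard_coe_finset, Finset.offDiag_card, Finset.card_univ,
    Nat.mul_sub_one]

/-- the order of a doubly transitive group -/
theorem card_group [Finite G] [Fintype Ω] (h2 : IsMultiplyPretransitive G Ω 2) {a b : Ω}
    (hab : a ≠ b) :
    Nat.card G = Fintype.card Ω * (Fintype.card Ω - 1) *
      Nat.card ↥(stabilizer G a ⊓ stabilizer G b) := by
  rw [← card_offdiag, ← orbit_pair h2 hab, ← stab_pair]
  rw [Nat.card_coe_set_eq, ← MulAction.index_stabilizer, Subgroup.index_mul_card]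

theorem card_stab [Finite G] [Fintype Ω] (h2 : IsMultiplyPretransitive G Ω 2) {a b : Ω}
    (hab : a ≠ b) :
    Nat.card ↥(stabilizer G a) = (Fintype.card Ω - 1) *
      Nat.card ↥(stabilizer G a ⊓ stabilizer G b) := by
  have h1 := card_group h2 hab
  have ht : IsPretransitive G Ω := by
    refine ⟨fun x y => ?_⟩
    by_cases hxy : x = y
    · exact ⟨1, by rw [one_smul, hxy]⟩
    · obtain ⟨g, hg, -⟩ := two_trans h2 hxy (Ne.symm hxy)
      exact ⟨g, hg⟩
  have h3 : (stabilizer G a).index = Fintype.card Ω := by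
    rw [MulAction.index_stabilizer, MulAction.orbit_eq_univ, Set.ncard_univ, Nat.card_eq_fintype_card]
  have h4 := Subgroup.index_mul_card (stabilizer G a)
  rw [h3, h1, mul_assoc] at h4
  exact Nat.eq_of_mul_eq_mul_left (Fintype.card_pos_iff.mpr ⟨a⟩) h4

section count
variable [Fintype G] [Fintype Ω] [DecidableEq Ω]

/-- number of fixed points -/
def fx (g : G) : ℕ := (Finset.univ.filter (fun c : Ω => g • c = c)).card

omit [Fintype G] in
theorem fx_one : fx (Ω := Ω) (1 : G) = Fintype.card Ω := by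
  simp [fx]

omit [Fintype G] in
theorem fx_le_two
    (h3 : ∀ g : G, ∀ a b c : Ω, a ≠ b → b ≠ c → a ≠ c → g • a = a → g • b = b → g • c = c → g = 1)
    (g : G) (hg : g ≠ 1) : fx (Ω := Ω) g ≤ 2 := by
  by_contra hcon
  push Not at hcon
  obtain ⟨a, b, c, ha, hb, hc, hab, hac, hbc⟩ := Finset.two_lt_card_iff.mp hcon
  simp only [Finset.mem_filter, Finset.mem_univ, true_and] at ha hb hc
  exact hg (h3 g a b c hab hbc hac ha hb hc)

omit [Fintype Ω] in
theorem card_filter_stab (c : Ω) :
    (Finset.univ.filter (fun g : G => g • c = c)).card = Nat.card ↥(stabilizer G c) :=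
  (Nat.subtype_card _ (by intro x; simp [mem_stabilizer_iff])).symm

omit [Fintype Ω] in
theorem card_filter_stab2 (c d : Ω) :
    (Finset.univ.filter (fun g : G => g • c = c ∧ g • d = d)).card =
      Nat.card ↥(stabilizer G c ⊓ stabilizer G d) :=
  (Nat.subtype_card _ (by intro x; simp [Subgroup.mem_inf, mem_stabilizer_iff])).symm

theorem sum_fx (h2 : IsMultiplyPretransitive G Ω 2) {a b : Ω} (hab : a ≠ b) :
    ∑ g : G, fx (Ω := Ω) g = Nat.card G := by
  have h := Finset.sum_card_bipartiteAbove_eq_sum_card_bipartiteBelow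
    (s := (Finset.univ : Finset G)) (t := (Finset.univ : Finset Ω)) (fun g c => g • c = c)
  have h1 : ∀ c : Ω, ((Finset.univ : Finset G).bipartiteBelow (fun g c => g • c = c) c).card =
      (Fintype.card Ω - 1) * Nat.card ↥(stabilizer G a ⊓ stabilizer G b) := by
    intro c
    obtain ⟨d, hd⟩ : ∃ d, c ≠ d := by
      by_cases hc : c = a
      · exact ⟨b, hc ▸ hab⟩
      · exact ⟨a, hc⟩
    rw [← card_stab2_eq h2 hab hd, ← card_stab h2 hd, ← card_filter_stab]
    rfl
  have h0 : ∑ g : G, fx (Ω := Ω) g = ∑ g : G,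
      ((Finset.univ : Finset Ω).bipartiteAbove (fun g c => g • c = c) g).card := rfl
  rw [h0, h, Finset.sum_congr rfl (fun c _ => h1 c), Finset.sum_const, Finset.card_univ,
    smul_eq_mul, card_group h2 hab, mul_assoc]

theorem sum_fx_off (h2 : IsMultiplyPretransitive G Ω 2) {a b : Ω} (hab : a ≠ b) :
    ∑ g : G, (fx (Ω := Ω) g * fx (Ω := Ω) g - fx (Ω := Ω) g) = Nat.card G := by
  have h := Finset.sum_card_bipartiteAbove_eq_sum_card_bipartiteBelow
    (s := (Finset.univ : Finset G)) (t := (Finset.univ : Finset Ω).offDiag)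
    (fun g x => g • x.1 = x.1 ∧ g • x.2 = x.2)
  have h1 : ∀ x ∈ (Finset.univ : Finset Ω).offDiag,
      ((Finset.univ : Finset G).bipartiteBelow (fun g (x : Ω × Ω) => g • x.1 = x.1 ∧ g • x.2 = x.2)
        x).card = Nat.card ↥(stabilizer G a ⊓ stabilizer G b) := by
    intro x hx
    have hx' : x.1 ≠ x.2 := by simpa using hx
    rw [← card_stab2_eq h2 hab hx', ← card_filter_stab2]
    rfl
  have h0 : ∀ g : G, fx (Ω := Ω) g * fx (Ω := Ω) g - fx (Ω := Ω) g =
      ((Finset.univ : Finset Ω).offDiag.bipartiteAbove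
        (fun g (x : Ω × Ω) => g • x.1 = x.1 ∧ g • x.2 = x.2) g).card := by
    intro g
    rw [fx, ← Finset.offDiag_card]
    congr 1
    ext x
    simp only [Finset.mem_offDiag, Finset.mem_filter, Finset.mem_univ, true_and,
      Finset.bipartiteAbove]
    tauto
  rw [Finset.sum_congr rfl (fun g _ => h0 g), h, Finset.sum_congr rfl h1, Finset.sum_const,
    Finset.offDiag_card, Finset.card_univ, smul_eq_mul, card_group h2 hab, Nat.mul_sub_one]

theorem card_fpf_aux [DecidableEq G] (h2 : IsMultiplyPretransitive G Ω 2)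
    (h3 : ∀ g : G, ∀ a b c : Ω, a ≠ b → b ≠ c → a ≠ c → g • a = a → g • b = b → g • c = c → g = 1)
    {a b : Ω} (hab : a ≠ b) :
    Nat.card G = 2 * (Finset.univ.filter (fun g : G => fx (Ω := Ω) g = 0)).card +
      (Fintype.card Ω - 1) * (Fintype.card Ω - 2) := by
  have hn : 2 ≤ Fintype.card Ω := by
    have := Fintype.one_lt_card_iff.mpr ⟨a, b, hab⟩
    omega
  have hpt : ∀ g : G, (fx (Ω := Ω) g * fx (Ω := Ω) g - fx (Ω := Ω) g) + 2 =
      2 * fx (Ω := Ω) g + (2 * (if fx (Ω := Ω) g = 0 then 1 else 0) +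
        (if g = 1 then (Fintype.card Ω - 1) * (Fintype.card Ω - 2) else 0)) := by
    intro g
    by_cases hg : g = 1
    · subst hg
      rw [fx_one]
      obtain ⟨m, hm⟩ : ∃ m, Fintype.card Ω = m + 2 := ⟨Fintype.card Ω - 2, by omega⟩
      rw [hm]
      have e1 : (m + 2) * (m + 2) - (m + 2) = (m + 2) * (m + 1) := by
        apply Nat.sub_eq_of_eq_add; ring
      rw [e1]
      simp only [Nat.add_sub_cancel, if_true]
      have e2 : m + 2 - 1 = m + 1 := by omega
      rw [e2, if_neg (by omega)]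
      ring
    · have hk := fx_le_two h3 g hg
      rw [if_neg hg]
      generalize fx (Ω := Ω) g = k at hk
      interval_cases k <;> simp
  have hs := Finset.sum_congr (s₁ := (Finset.univ : Finset G)) rfl (fun g _ => hpt g)
  rw [Finset.sum_add_distrib, Finset.sum_add_distrib, Finset.sum_add_distrib, sum_fx_off h2 hab,
    ← Finset.mul_sum, ← Finset.mul_sum, sum_fx h2 hab, Finset.sum_ite_eq' , if_pos (Finset.mem_univ _),
    Finset.sum_const, Finset.card_univ, ← Finset.card_filter, smul_eq_mul,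
    ← Nat.card_eq_fintype_card] at hs
  omega

theorem card_fixOnly_aux [DecidableEq G] (h2 : IsMultiplyPretransitive G Ω 2)
    (h3 : ∀ g : G, ∀ a b c : Ω, a ≠ b → b ≠ c → a ≠ c → g • a = a → g • b = b → g • c = c → g = 1)
    {a b : Ω} (hab : a ≠ b) :
    (Finset.univ.filter (fun g : G => g • a = a ∧ fx (Ω := Ω) g = 1)).card =
      Fintype.card Ω - 2 := by
  have hn : 2 ≤ Fintype.card Ω := by
    have := Fintype.one_lt_card_iff.mpr ⟨a, b, hab⟩
    omega
  have h := Finset.sum_card_bipartiteAbove_eq_sum_card_bipartiteBelow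
    (s := (Finset.univ.filter (fun g : G => g • a = a))) (t := (Finset.univ : Finset Ω).erase a)
    (fun g c => g • c = c)
  have h1 : ∀ c ∈ (Finset.univ : Finset Ω).erase a,
      ((Finset.univ.filter (fun g : G => g • a = a)).bipartiteBelow (fun g c => g • c = c) c).card =
        Nat.card ↥(stabilizer G a ⊓ stabilizer G b) := by
    intro c hc
    have hc' : a ≠ c := by
      have := Finset.ne_of_mem_erase hc
      exact Ne.symm this
    rw [← card_stab2_eq h2 hab hc', ← card_filter_stab2]
    congr 1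
    ext g
    simp [Finset.bipartiteBelow]
  have h0 : ∀ g ∈ (Finset.univ.filter (fun g : G => g • a = a)),
      (((Finset.univ : Finset Ω).erase a).bipartiteAbove (fun g c => g • c = c) g).card + 1 =
        fx (Ω := Ω) g := by
    intro g hg
    have hg' : g • a = a := by simpa using hg
    have : ((Finset.univ : Finset Ω).erase a).bipartiteAbove (fun g c => g • c = c) g =
        (Finset.univ.filter (fun c : Ω => g • c = c)).erase a := by
      ext c
      simp only [Finset.bipartiteAbove, Finset.mem_filter, Finset.mem_erase, Finset.mem_univ,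
        true_and, and_true]
    rw [this, fx, Finset.card_erase_add_one]
    simpa using hg'
  have hpt : ∀ g ∈ (Finset.univ.filter (fun g : G => g • a = a)),
      (((Finset.univ : Finset Ω).erase a).bipartiteAbove (fun g c => g • c = c) g).card +
        (if fx (Ω := Ω) g = 1 then 1 else 0) = 1 + (if g = 1 then Fintype.card Ω - 2 else 0) := by
    intro g hg
    have h0g := h0 g hg
    by_cases hg1 : g = 1
    · subst hg1
      rw [fx_one] at h0g ⊢
      rw [if_pos rfl, if_neg (by omega)]
      omega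
    · have hk := fx_le_two h3 g hg1
      rw [if_neg hg1]
      generalize fx (Ω := Ω) g = k at hk h0g
      split_ifs <;> omega
  have hs := Finset.sum_congr (s₁ := (Finset.univ.filter (fun g : G => g • a = a))) rfl hpt
  rw [Finset.sum_add_distrib, Finset.sum_add_distrib, h, Finset.sum_congr rfl h1,
    Finset.sum_const, Finset.sum_const, Finset.sum_ite_eq', if_pos (by simp), smul_eq_mul,
    smul_eq_mul, mul_one, card_filter_stab, card_stab h2 hab, Finset.card_erase_of_mem (Finset.mem_univ _),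
    Finset.card_univ, ← Finset.card_filter, Finset.filter_filter] at hs
  omega

end count

theorem fx_eq_zero_iff [Fintype Ω] [DecidableEq Ω] (g : G) :
    fx (Ω := Ω) g = 0 ↔ ∀ c : Ω, g • c ≠ c := by
  simp [fx, Finset.filter_eq_empty_iff]

theorem fx_eq_one_iff [Fintype Ω] [DecidableEq Ω] (g : G) (a : Ω) (ha : g • a = a) :
    fx (Ω := Ω) g = 1 ↔ ∀ c : Ω, g • c = c → c = a := by
  rw [fx, Finset.card_eq_one]
  constructor
  · rintro ⟨x, hx⟩ c hc
    have h1 : c ∈ ({x} : Finset Ω) := by rw [← hx]; simpa using hc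
    have h2 : a ∈ ({x} : Finset Ω) := by rw [← hx]; simpa using ha
    rw [Finset.mem_singleton] at h1 h2
    rw [h1, h2]
  · intro h
    refine ⟨a, ?_⟩
    ext c
    simp only [Finset.mem_filter, Finset.mem_univ, true_and, Finset.mem_singleton]
    exact ⟨h c, fun hc => hc ▸ ha⟩

/-- the number of fixed point free elements -/
theorem card_fpf [Finite G] [Fintype Ω] (h2 : IsMultiplyPretransitive G Ω 2)
    (h3 : ∀ g : G, ∀ a b c : Ω, a ≠ b → b ≠ c → a ≠ c → g • a = a → g • b = b → g • c = c → g = 1)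
    {a b : Ω} (hab : a ≠ b) :
    Nat.card G = 2 * Nat.card {g : G // ∀ c : Ω, g • c ≠ c} +
      (Fintype.card Ω - 1) * (Fintype.card Ω - 2) := by
  classical
  have := Fintype.ofFinite G
  rw [card_fpf_aux h2 h3 hab]
  congr 2
  exact (Nat.subtype_card _ (by intro x; simp [fx_eq_zero_iff])).symm

/-- the number of elements fixing exactly one given point -/
theorem card_fixOnly [Finite G] [Fintype Ω] (h2 : IsMultiplyPretransitive G Ω 2)
    (h3 : ∀ g : G, ∀ a b c : Ω, a ≠ b → b ≠ c → a ≠ c → g • a = a → g • b = b → g • c = c → g = 1)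
    {a b : Ω} (hab : a ≠ b) :
    Nat.card {g : G // g • a = a ∧ ∀ c : Ω, g • c = c → c = a} = Fintype.card Ω - 2 := by
  classical
  have := Fintype.ofFinite G
  rw [← card_fixOnly_aux h2 h3 hab]
  refine Nat.subtype_card _ ?_
  intro x
  simp only [Finset.mem_filter, Finset.mem_univ, true_and]
  constructor
  · rintro ⟨h1, h2⟩
    exact ⟨h1, (fx_eq_one_iff x a h1).mp h2⟩
  · rintro ⟨h1, h2⟩
    exact ⟨h1, (fx_eq_one_iff x a h1).mpr h2⟩

end Cfsg.Agent.Lib.Helper54.Zass
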