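import Mathlib
import Cfsg.Agent.Lib.Helper54.ZassCount
import Cfsg.Agent.Lib.Helper16.Zassenhaus
import Cfsg.Agent.Lib.Helper60.Involutions
import Cfsg.Agent.Lib.Helper69.Zass
import Cfsg.Agent.S0033

set_option autoImplicit false

namespace Cfsg.Agent.Lib.Helper54.Zass

open MulAction

/-- a nontrivial normal subgroup of a nilpotent group meets the centre -/
theorem exists_central_of_normal {K : Type*} [Group K] [hK : Group.IsNilpotent K] (N : Subgroup K)
    [hN : N.Normal] (hN1 : N ≠ ⊥) : ∃ z ∈ N, z ≠ 1 ∧ z ∈ Subgroup.center K := by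
  classical
  obtain ⟨m, hm⟩ := hK.nilpotent'
  have hex : ∃ i, N ⊓ Subgroup.upperCentralSeries K i ≠ ⊥ := ⟨m, by rw [hm, inf_top_eq]; exact hN1⟩
  obtain ⟨i, hi, hmin⟩ : ∃ i, N ⊓ Subgroup.upperCentralSeries K i ≠ ⊥ ∧
      ∀ j < i, N ⊓ Subgroup.upperCentralSeries K j = ⊥ :=
    ⟨Nat.find hex, Nat.find_spec hex, fun j hj => by
      have := Nat.find_min hex hj
      push Not at this
      exact this⟩
  cases i with
  | zero => simp at hi
  | succ i =>
    obtain ⟨z, hz, hz1⟩ : ∃ z ∈ N ⊓ Subgroup.upperCentralSeries K (i + 1), z ≠ 1 := by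
      by_contra hcon
      push Not at hcon
      exact hi ((Subgroup.eq_bot_iff_forall _).mpr hcon)
    refine ⟨z, hz.1, hz1, ?_⟩
    rw [Subgroup.mem_center_iff]
    intro y
    have h1 : z * y * z⁻¹ * y⁻¹ ∈ N ⊓ Subgroup.upperCentralSeries K i := by
      refine ⟨?_, (Subgroup.mem_upperCentralSeries_succ_iff).mp hz.2 y⟩
      have : z * y * z⁻¹ * y⁻¹ = z * (y * z⁻¹ * y⁻¹) := by group
      rw [this]
      exact N.mul_mem hz.1 (hN.conj_mem _ (N.inv_mem hz.1) y)
    rw [hmin i (Nat.lt_succ_self i), Subgroup.mem_bot] at h1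
    have h2 : z * y = y * z := by
      have := congrArg (fun t => t * y * z) h1
      simpa [mul_assoc] using this
    exact h2.symm

/-- a finite nilpotent group of even order has a central involution -/
theorem exists_central_involution {K : Type*} [Group K] [Finite K] [hK : Group.IsNilpotent K]
    (h : Even (Nat.card K)) : ∃ z : K, orderOf z = 2 ∧ z ∈ Subgroup.center K := by
  have : Fact (Nat.Prime 2) := ⟨Nat.prime_two⟩
  obtain ⟨S⟩ : Nonempty (Sylow 2 K) := inferInstance
  have hSn : (S : Subgroup K).Normal := inferInstance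
  have hS1 : (S : Subgroup K) ≠ ⊥ := S.ne_bot_of_dvd_card (even_iff_two_dvd.mp h)
  obtain ⟨z, hzS, hz1, hzc⟩ := exists_central_of_normal (S : Subgroup K) hS1
  obtain ⟨j, hj⟩ := (IsPGroup.iff_orderOf.mp S.2) ⟨z, hzS⟩
  rw [Subgroup.orderOf_mk] at hj
  cases j with
  | zero =>
    rw [pow_zero, orderOf_eq_one_iff] at hj
    exact absurd hj hz1
  | succ j =>
    refine ⟨z ^ (2 ^ j), ?_, Subgroup.pow_mem _ hzc _⟩
    have h1 : orderOf z / 2 = 2 ^ j := by rw [hj, pow_succ]; simp
    rw [← h1]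
    exact orderOf_pow_orderOf_div (by rw [hj]; positivity) (by rw [hj, pow_succ]; simp)

variable {G Ω : Type*} [Group G] [MulAction G Ω]

/-- the elements fixing exactly the point `a` all lie in a kernel-like subgroup -/
theorem mem_of_fixOnly [Finite G] [Fintype Ω] (h2 : IsMultiplyPretransitive G Ω 2)
    (h3 : ∀ g : G, ∀ a b c : Ω, a ≠ b → b ≠ c → a ≠ c → g • a = a → g • b = b → g • c = c → g = 1)
    {a b : Ω} (hab : a ≠ b) (H : Subgroup G) (hHa : H ≤ stabilizer G a)
    (hHcard : Nat.card H + 1 = Fintype.card Ω)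
    (hHfix : ∀ u ∈ H, u ≠ 1 → ∀ c : Ω, u • c = c → c = a) (g : G) (hga : g • a = a)
    (hg : ∀ c : Ω, g • c = c → c = a) : g ∈ H := by
  have hcard := card_fixOnly h2 h3 hab
  have hsub : (H : Set G) \ {1} ⊆ {g : G | g • a = a ∧ ∀ c : Ω, g • c = c → c = a} := by
    rintro u ⟨hu, hu1⟩
    exact ⟨hHa hu, hHfix u hu hu1⟩
  have hc1 : ((H : Set G) \ {1}).ncard = Nat.card H - 1 := by
    rw [Set.ncard_sdiff_singleton_of_mem H.one_mem]
    rfl
  have heq := Set.eq_of_subset_of_ncard_le hsub (by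
    rw [hc1]
    have : ({g : G | g • a = a ∧ ∀ c : Ω, g • c = c → c = a}).ncard = Fintype.card Ω - 2 := hcard
    rw [this]
    omega) (Set.toFinite _)
  have : g ∈ (H : Set G) \ {1} := by
    rw [heq]
    exact ⟨hga, hg⟩
  exact this.1

/-- involutions have exactly one fixed point when the degree is odd -/
theorem invol_fix_unique [Fintype Ω]
    (h3 : ∀ g : G, ∀ a b c : Ω, a ≠ b → b ≠ c → a ≠ c → g • a = a → g • b = b → g • c = c → g = 1)
    (hodd : Odd (Fintype.card Ω)) (s : G) (hs : orderOf s = 2) :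
    ∃ c : Ω, s • c = c ∧ ∀ d : Ω, s • d = d → d = c := by
  have hs1 : s ≠ 1 := by
    rintro rfl
    rw [orderOf_one] at hs; omega
  have hs2 : s ^ 2 = 1 := by rw [← hs]; exact pow_orderOf_eq_one s
  have h1 := Helper16.card_fixedBy_le_two h3 s hs1
  have h2 := Helper16.card_fixedBy_modEq_two (Ω := Ω) s hs2
  have h4 : Nat.card (fixedBy Ω s) = 1 := by
    obtain ⟨k, hk⟩ := hodd
    rw [hk] at h2
    have : Nat.card (fixedBy Ω s) % 2 = 1 := by
      rw [h2]; omega
    omega
  obtain ⟨⟨c, hc⟩, hu⟩ := (Nat.card_eq_one_iff_exists.mp h4)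
  exact ⟨c, hc, fun d hd => congrArg Subtype.val (hu ⟨d, hd⟩)⟩

theorem fix_of_commute {s z : G} (hc : Commute z s) {c : Ω} (hs : s • c = c)
    (hu : ∀ d : Ω, s • d = d → d = c) : z • c = c := by
  apply hu
  rw [← mul_smul, ← hc.eq, mul_smul, hs]

/-- all involutions are conjugate when the degree is odd -/
theorem invol_isConj_of_odd [Finite G] [Fintype Ω] (h2 : IsMultiplyPretransitive G Ω 2)
    (h3 : ∀ g : G, ∀ a b c : Ω, a ≠ b → b ≠ c → a ≠ c → g • a = a → g • b = b → g • c = c → g = 1)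
    {a b : Ω} (hab : a ≠ b)
    (hodd : Odd (Fintype.card Ω)) (s t : G) (hs : orderOf s = 2) (ht : orderOf t = 2) :
    IsConj s t := by
  have key : ∀ s t : G, orderOf s = 2 → orderOf t = 2 → ∀ c d : Ω, s • c = c → t • d = d → c ≠ d →
      IsConj s t := by
    intro s t hs ht c d hc hd hcd
    by_contra hnc
    obtain ⟨k, hz, hzs, hzt⟩ := Helper60.exists_involution_commute_of_not_isConj hs ht hnc
    obtain ⟨c', hc', hcu⟩ := invol_fix_unique h3 hodd s hs
    obtain ⟨d', hd', hdu⟩ := invol_fix_unique h3 hodd t ht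
    obtain ⟨x, hx, hxu⟩ := invol_fix_unique h3 hodd _ hz
    have e1 := hxu _ (fix_of_commute hzs hc' hcu)
    have e2 := hxu _ (fix_of_commute hzt hd' hdu)
    exact hcd ((hcu c hc).trans (e1.trans (e2.symm.trans (hdu d hd).symm)))
  obtain ⟨c, hc, hcu⟩ := invol_fix_unique h3 hodd s hs
  obtain ⟨d, hd, hdu⟩ := invol_fix_unique h3 hodd t ht
  by_cases hcd : c = d
  · obtain ⟨x, hx⟩ : ∃ x : Ω, x ≠ c := by
      by_cases h : a = c
      · exact ⟨b, fun hb => hab (h.trans hb.symm)⟩
      · exact ⟨a, h⟩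
    obtain ⟨g, hg, -⟩ := two_trans h2 (Ne.symm hx) hx
    have hs' : orderOf (g * s * g⁻¹) = 2 := by
      have : g * s * g⁻¹ = MulAut.conj g s := rfl
      rw [this, MulEquiv.orderOf_eq, hs]
    have hfix : (g * s * g⁻¹) • x = x := by
      rw [mul_smul, mul_smul, ← hg, inv_smul_smul, hc]
    have h1 : IsConj s (g * s * g⁻¹) := isConj_iff.mpr ⟨g, rfl⟩
    exact h1.trans (key _ _ hs' ht x d hfix hd (hcd ▸ hx))
  · exact key s t hs ht c d hc hd hcd

/-- The (nilpotent) Frobenius kernel of a point stabiliser. -/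
theorem exists_kernel' [Finite G] [Fintype Ω] (h2 : IsMultiplyPretransitive G Ω 2)
    (h3 : ∀ g : G, ∀ a b c : Ω, a ≠ b → b ≠ c → a ≠ c → g • a = a → g • b = b → g • c = c → g = 1)
    {a b : Ω} (hab : a ≠ b) (hn : 3 ≤ Fintype.card Ω)
    (hE : 1 < Nat.card ↥(stabilizer G a ⊓ stabilizer G b)) :
    ∃ K : Subgroup G, K ≤ stabilizer G a ∧ Nat.card K + 1 = Fintype.card Ω ∧
      (∀ u ∈ K, u ≠ 1 → ∀ c : Ω, u • c = c → c = a) ∧ Group.IsNilpotent K ∧
      (∀ f : G, f • a = a → ∀ k ∈ K, f * k * f⁻¹ ∈ K) := by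
  classical
  obtain ⟨c, hc⟩ : ∃ c : Ω, c ∉ ({a, b} : Finset Ω) := by
    by_contra hcon
    push Not at hcon
    have h1 : (Finset.univ : Finset Ω) ⊆ {a, b} := fun x _ => hcon x
    have h4 := Finset.card_le_card h1
    have h5 : ({a, b} : Finset Ω).card ≤ 2 := Finset.card_le_two
    rw [Finset.card_univ] at h4
    omega
  have hac : a ≠ c := fun h => hc (by simp [h])
  have hbc : b ≠ c := fun h => hc (by simp [h])
  obtain ⟨p, hp, hpd⟩ := Nat.exists_prime_and_dvd (Nat.ne_of_gt hE)
  have := Fact.mk hp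
  obtain ⟨⟨x, hxE⟩, hxo⟩ := exists_prime_orderOf_dvd_card' p hpd
  rw [Subgroup.orderOf_mk] at hxo
  have hx1 : x ≠ 1 := by
    rintro rfl
    rw [orderOf_one] at hxo
    exact hp.one_lt.ne hxo
  have hxa : x • a = a := hxE.1
  have hxb : x • b = b := hxE.2
  obtain ⟨K, hKa, hKn, hKfree, hKt⟩ := Helper69.Zass.exists_kernel
    (fun a b c d hab hcd => two_trans h2 hab hcd) h3 a b c hab hbc hac x hx1 hxa hxb
  have hcard : Nat.card K + 1 = Fintype.card Ω := by
    have hbij : Function.Bijective (fun k : K => (⟨(k : G) • b, fun h => hab (by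
        have := hKa k k.2
        rw [← this] at h
        exact (smul_left_cancel _ h).symm)⟩ : {y : Ω // y ≠ a})) := by
      constructor
      · intro k k' hkk
        have h1 : (k : G) • b = (k' : G) • b := congrArg Subtype.val hkk
        by_contra hne
        have h4 : ((k' : G)⁻¹ * k) ≠ 1 := by
          intro h
          apply hne
          apply Subtype.ext
          exact (inv_mul_eq_one.mp h).symm
        exact hKfree _ (K.mul_mem (K.inv_mem k'.2) k.2) h4 b (Ne.symm hab)
          (by rw [mul_smul, h1, inv_smul_smul])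
      · rintro ⟨y, hy⟩
        obtain ⟨k, hk, hky⟩ := hKt b y (Ne.symm hab) hy
        exact ⟨⟨k, hk⟩, Subtype.ext hky⟩
    rw [Nat.card_congr (Equiv.ofBijective _ hbij)]
    have : Nat.card {y : Ω // y ≠ a} = ((Finset.univ : Finset Ω).erase a).card :=
      Nat.subtype_card _ (by intro y; simp)
    rw [this, Finset.card_erase_of_mem (Finset.mem_univ _), Finset.card_univ]
    omega
  have hfix : ∀ u ∈ K, u ≠ 1 → ∀ c : Ω, u • c = c → c = a := by
    intro u hu hu1 c hc
    by_contra hca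
    exact hKfree u hu hu1 c hca hc
  refine ⟨K, fun k hk => hKa k hk, hcard, hfix, ?_, hKn⟩
  -- nilpotency by Thompson's theorem
  have hxN : x ∈ Subgroup.normalizer (K : Set G) := by
    rw [Subgroup.mem_normalizer_iff]
    intro k
    constructor
    · exact hKn x hxa k
    · intro hk
      have := hKn x⁻¹ (by rw [inv_smul_eq_iff, hxa]) _ hk
      simpa [mul_assoc] using this
  have hfpf : MonoidHom.FixedPointFree
      ((K.normalizerMonoidHom ⟨x, hxN⟩ : K ≃* K) : K →* K) := by
    intro k hk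
    have hk' : x * k * x⁻¹ = k := congrArg Subtype.val hk
    by_contra hk1
    have hk1' : (k : G) ≠ 1 := fun h => hk1 (Subtype.ext h)
    have hcomm : x * k = k * x := by
      rw [mul_inv_eq_iff_eq_mul] at hk'
      exact hk'
    apply hx1
    apply h3 x a b ((k : G) • b) hab
    · intro h
      exact hKfree k k.2 hk1' b (Ne.symm hab) h.symm
    · intro h
      have := hKa k k.2
      rw [← this] at h
      exact hab (smul_left_cancel _ h)
    · exact hxa
    · exact hxb
    · rw [← mul_smul, hcomm, mul_smul, hxb]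
  have hord : orderOf (K.normalizerMonoidHom ⟨x, hxN⟩) = p := by
    apply orderOf_eq_prime
    · rw [← map_pow]
      have : (⟨x, hxN⟩ : Subgroup.normalizer (K : Set G)) ^ p = 1 := by
        apply Subtype.ext
        simp only [Subgroup.coe_pow, Subgroup.coe_one]
        rw [← hxo]
        exact pow_orderOf_eq_one x
      rw [this, map_one]
    · intro h1
      have hK2 : 1 < Nat.card K := by omega
      have hnt := Finite.one_lt_card_iff_nontrivial.mp hK2
      obtain ⟨k, hk⟩ := exists_ne (1 : K)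
      apply hk
      apply hfpf k
      have : (K.normalizerMonoidHom ⟨x, hxN⟩ : K ≃* K) k = k := by rw [h1]; rfl
      exact this
  exact Cfsg.Agent.S0033.result _ hfpf p hp hord

/-- the centraliser of an involution fixing `a` lies in the kernel (odd degree) -/
theorem centralizer_invol_le [Finite G] [Fintype Ω] (h2 : IsMultiplyPretransitive G Ω 2)
    (h3 : ∀ g : G, ∀ a b c : Ω, a ≠ b → b ≠ c → a ≠ c → g • a = a → g • b = b → g • c = c → g = 1)
    {a b : Ω} (hab : a ≠ b) (hodd : Odd (Fintype.card Ω)) (H : Subgroup G)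
    (hHa : H ≤ stabilizer G a) (hHcard : Nat.card H + 1 = Fintype.card Ω)
    (hHfix : ∀ u ∈ H, u ≠ 1 → ∀ c : Ω, u • c = c → c = a) (x : G) (hx : orderOf x = 2)
    (hxa : x • a = a) : Subgroup.centralizer ({x} : Set G) ≤ H := by
  intro g hg
  have hcomm : Commute g x := by
    have := Subgroup.mem_centralizer_iff.mp hg x rfl
    exact this.symm
  obtain ⟨c0, hc0, hu0⟩ := invol_fix_unique h3 hodd x hx
  have hac0 : a = c0 := hu0 a hxa
  subst hac0
  by_cases hg1 : g = 1
  · rw [hg1]; exact H.one_mem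
  have hga : g • a = a := fix_of_commute hcomm hxa hu0
  apply mem_of_fixOnly h2 h3 hab H hHa hHcard hHfix g hga
  intro c hc
  by_contra hca
  apply hg1
  apply h3 g a c (x • c) (Ne.symm hca)
  · intro h
    exact hca (hu0 c h.symm)
  · intro h
    rw [← hxa] at h
    exact hca (smul_left_cancel _ h).symm
  · exact hga
  · exact hc
  · rw [← mul_smul, hcomm.eq, mul_smul, hc]

/-- the centraliser of an involution fixing `a` is the kernel (odd degree) -/
theorem centralizer_invol_eq [Finite G] [Fintype Ω] (h2 : IsMultiplyPretransitive G Ω 2)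
    (h3 : ∀ g : G, ∀ a b c : Ω, a ≠ b → b ≠ c → a ≠ c → g • a = a → g • b = b → g • c = c → g = 1)
    {a b : Ω} (hab : a ≠ b) (hodd : Odd (Fintype.card Ω)) (hn : 3 ≤ Fintype.card Ω)
    (hE : 1 < Nat.card ↥(stabilizer G a ⊓ stabilizer G b)) (H : Subgroup G)
    (hHa : H ≤ stabilizer G a) (hHcard : Nat.card H + 1 = Fintype.card Ω)
    (hHfix : ∀ u ∈ H, u ≠ 1 → ∀ c : Ω, u • c = c → c = a) (x : G) (hx : orderOf x = 2)
    (hxa : x • a = a) : Subgroup.centralizer ({x} : Set G) = H := by
  apply le_antisymm (centralizer_invol_le h2 h3 hab hodd H hHa hHcard hHfix x hx hxa)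
  obtain ⟨K, hKa, hKcard, hKfix, hKnil, hKn⟩ := exists_kernel' h2 h3 hab hn hE
  have hKH : K = H := by
    apply Subgroup.eq_of_le_of_card_ge
    · intro k hk
      by_cases hk1 : k = 1
      · rw [hk1]; exact H.one_mem
      · exact mem_of_fixOnly h2 h3 hab H hHa hHcard hHfix k (hKa hk) (hKfix k hk hk1)
    · omega
  subst hKH
  have heven : Even (Nat.card K) := by
    obtain ⟨m, hm⟩ := hodd
    exact ⟨m, by omega⟩
  obtain ⟨⟨z, hzK⟩, hzo, hzc⟩ := exists_central_involution heven
  rw [Subgroup.orderOf_mk] at hzo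
  have hza : z • a = a := hKa hzK
  obtain ⟨g, hg⟩ := isConj_iff.mp (invol_isConj_of_odd h2 h3 hab hodd z x hzo hx)
  obtain ⟨c0, hc0, hu0⟩ := invol_fix_unique h3 hodd x hx
  have hac0 : a = c0 := hu0 a hxa
  subst hac0
  have hga : g • a = a := by
    apply hu0
    rw [← hg, mul_smul, mul_smul, inv_smul_smul, hza]
  intro u hu
  rw [Subgroup.mem_centralizer_iff]
  intro y hy
  rw [Set.mem_singleton_iff] at hy
  subst hy
  have h1 : g⁻¹ * u * g ∈ K := by
    have := hKn g⁻¹ (by rw [inv_smul_eq_iff, hga]) u hu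
    simpa using this
  have h4 : z * (g⁻¹ * u * g) = (g⁻¹ * u * g) * z := by
    have := Subgroup.mem_center_iff.mp hzc ⟨_, h1⟩
    exact (congrArg Subtype.val this).symm
  rw [← hg]
  calc g * z * g⁻¹ * u = g * (z * (g⁻¹ * u * g)) * g⁻¹ := by group
    _ = g * ((g⁻¹ * u * g) * z) * g⁻¹ := by rw [h4]
    _ = u * (g * z * g⁻¹) := by group

end Cfsg.Agent.Lib.Helper54.Zass
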