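import Mathlib
import Cfsg.Prelude.Def_LieExceptional
import Cfsg.Agent.Lib.Helper54.ZassCount
import Cfsg.Agent.S0741
import Cfsg.Agent.S0885

set_option autoImplicit false

namespace Cfsg.Agent.Lib.Helper54.Zass

open MulAction

variable {G Ω : Type*} [Group G] [MulAction G Ω]

/-- nonidentity elements of a regular subgroup fix only `a` -/
theorem reg_fix {a : Ω} (F : Subgroup G)
    (hreg : ∀ y z : Ω, y ≠ a → z ≠ a → ∃! u : F, (u : G) • y = z) :
    ∀ u ∈ F, u ≠ 1 → ∀ c : Ω, u • c = c → c = a := by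
  intro u hu hu1 c hc
  by_contra hca
  obtain ⟨w, -, hw⟩ := hreg c c hca hca
  have e1 := hw ⟨u, hu⟩ hc
  have e2 := hw 1 (one_smul _ _)
  exact hu1 (congrArg Subtype.val (e1.trans e2.symm))

/-- the order of a regular subgroup -/
theorem reg_card [Fintype Ω] {a b : Ω} (hab : a ≠ b) (F : Subgroup G) (hFle : F ≤ stabilizer G a)
    (hreg : ∀ y z : Ω, y ≠ a → z ≠ a → ∃! u : F, (u : G) • y = z) :
    Nat.card F + 1 = Fintype.card Ω := by
  classical
  have hbij : Function.Bijective (fun k : F => (⟨(k : G) • b, fun h => hab (by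
      have := hFle k.2
      rw [MulAction.mem_stabilizer_iff] at this
      rw [← this] at h
      exact (smul_left_cancel _ h).symm)⟩ : {y : Ω // y ≠ a})) := by
    constructor
    · intro k k' hkk
      have h1 : (k : G) • b = (k' : G) • b := congrArg Subtype.val hkk
      have hne : (k' : G) • b ≠ a := by
        intro h
        have := hFle k'.2
        rw [MulAction.mem_stabilizer_iff] at this
        rw [← this] at h
        exact hab (smul_left_cancel _ h).symm
      obtain ⟨w, -, hw⟩ := hreg b ((k' : G) • b) (Ne.symm hab) hne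
      exact (hw k h1).trans (hw k' rfl).symm
    · rintro ⟨y, hy⟩
      obtain ⟨k, hk, -⟩ := hreg b y (Ne.symm hab) hy
      exact ⟨k, Subtype.ext hk⟩
  rw [Nat.card_congr (Equiv.ofBijective _ hbij)]
  have : Nat.card {y : Ω // y ≠ a} = ((Finset.univ : Finset Ω).erase a).card :=
    Nat.subtype_card _ (by intro y; simp)
  rw [this, Finset.card_erase_of_mem (Finset.mem_univ _), Finset.card_univ]
  have := Fintype.card_pos_iff.mpr ⟨a⟩
  omega

theorem one_lt_card_stab2 [Finite G] (hZ : Cfsg.IsZassenhausGroup G Ω) {a b : Ω} (hab : a ≠ b) :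
    1 < Nat.card ↥(stabilizer G a ⊓ stabilizer G b) := by
  obtain ⟨hF, h2, h3, ⟨g0, hg0, a0, b0, hab0, h0a, h0b⟩, hregN⟩ := hZ
  rw [← card_stab2_eq h2 hab hab0]
  rw [Finite.one_lt_card_iff_nontrivial]
  refine ⟨⟨⟨g0, ?_⟩, 1, ?_⟩⟩
  · exact Subgroup.mem_inf.mpr ⟨h0a, h0b⟩
  · intro h
    exact hg0 (congrArg Subtype.val h)

theorem three_le_card [Fintype Ω] (hZ : Cfsg.IsZassenhausGroup G Ω) : 3 ≤ Fintype.card Ω := by
  classical
  obtain ⟨hF, h2, h3, ⟨g0, hg0, a0, b0, hab0, h0a, h0b⟩, hregN⟩ := hZ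
  obtain ⟨x, hx⟩ : ∃ x : Ω, g0 • x ≠ x := by
    by_contra hcon
    push Not at hcon
    exact hg0 (hF.eq_of_smul_eq_smul (fun x => by rw [hcon x, one_smul]))
  have h4 : ({a0, b0, x} : Finset Ω).card = 3 := by
    rw [Finset.card_eq_three]
    refine ⟨a0, b0, x, hab0, ?_, ?_, rfl⟩
    · rintro rfl; exact hx h0a
    · rintro rfl; exact hx h0b
  have h5 := Finset.card_le_univ ({a0, b0, x} : Finset Ω)
  omega

/-- the two point stabiliser acts freely on the remaining points -/
theorem card_stab2_dvd [Fintype Ω]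
    (h3 : ∀ g : G, ∀ a b c : Ω, a ≠ b → b ≠ c → a ≠ c → g • a = a → g • b = b → g • c = c → g = 1)
    {a b : Ω} (hab : a ≠ b) :
    Nat.card ↥(stabilizer G a ⊓ stabilizer G b) ∣ Fintype.card Ω - 2 := by
  classical
  let S : SubMulAction ↥(stabilizer G a ⊓ stabilizer G b) Ω :=
    { carrier := {x | x ≠ a ∧ x ≠ b}
      smul_mem' := by
        rintro ⟨g, hg⟩ x ⟨hxa, hxb⟩
        have hga : g • a = a := hg.1
        have hgb : g • b = b := hg.2
        constructor
        · intro h
          have h' : g • x = a := h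
          rw [← hga] at h'
          exact hxa (smul_left_cancel _ h')
        · intro h
          have h' : g • x = b := h
          rw [← hgb] at h'
          exact hxb (smul_left_cancel _ h') }
  have hfree : ∀ x : S, stabilizer ↥(stabilizer G a ⊓ stabilizer G b) x = ⊥ := by
    rintro ⟨x, hxa, hxb⟩
    rw [Subgroup.eq_bot_iff_forall]
    rintro ⟨g, hg⟩ hgx
    rw [mem_stabilizer_iff] at hgx
    have hgx' : g • x = x := congrArg Subtype.val hgx
    apply Subtype.ext
    exact h3 g a b x hab (Ne.symm hxb) (Ne.symm hxa) hg.1 hg.2 hgx'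
  have h1 : Nat.card ↥(stabilizer G a ⊓ stabilizer G b) ∣ Nat.card S := by
    rw [Nat.card_congr (MulAction.selfEquivOrbitsQuotientProd hfree), Nat.card_prod]
    exact dvd_mul_left _ _
  have h4 : Nat.card S = Fintype.card Ω - 2 := by
    have : Nat.card S = (((Finset.univ : Finset Ω).erase a).erase b).card :=
      Nat.subtype_card _ (by
        intro y
        simp only [Finset.mem_erase, Finset.mem_univ, and_true]
        exact ⟨fun h => ⟨h.2, h.1⟩, fun h => ⟨h.2, h.1⟩⟩)
    rw [this, Finset.card_erase_of_mem (by simp [Ne.symm hab]),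
      Finset.card_erase_of_mem (Finset.mem_univ _), Finset.card_univ]
    omega
  rwa [h4] at h1

theorem card_dichotomy {G Ω : Type*} [Group G] [Finite G] [MulAction G Ω] [Finite Ω]
    (hZ : Cfsg.IsZassenhausGroup G Ω) {a b : Ω} (hab : a ≠ b) (F : Subgroup G)
    (hFle : F ≤ stabilizer G a) (hFab : ∀ u ∈ F, ∀ v ∈ F, u * v = v * u)
    (hreg : ∀ y z : Ω, y ≠ a → z ≠ a → ∃! u : F, (u : G) • y = z) :
    Nat.card ↥(stabilizer G a ⊓ stabilizer G b) + 2 = Nat.card Ω ∨
      2 * Nat.card ↥(stabilizer G a ⊓ stabilizer G b) + 2 = Nat.card Ω := by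
  classical
  have := Fintype.ofFinite Ω
  rw [Nat.card_eq_fintype_card (α := Ω)]
  have hn := three_le_card hZ
  have hdvd := card_stab2_dvd hZ.2.2.1 hab
  obtain ⟨e, he⟩ : ∃ e, Nat.card ↥(stabilizer G a ⊓ stabilizer G b) = e := ⟨_, rfl⟩
  have hle : Fintype.card Ω - 2 ≤ 2 * e := by
    rcases Nat.even_or_odd e with hev | hodd
    · rw [← he]
      exact Cfsg.Agent.S0741.result hZ hab (by rw [he]; exact hev)
    · obtain ⟨h, hh⟩ : ∃ h, Fintype.card Ω = h + 1 := ⟨Fintype.card Ω - 1, by omega⟩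
      rcases Cfsg.Agent.S0885.result hZ hab h e hh he hodd F hFle (reg_card hab F hFle hreg)
        (reg_fix F hreg) with h' | ⟨-, ⟨u, u', huu⟩, -⟩
      · omega
      · exact absurd (Subtype.ext (hFab u u.2 u' u'.2)) huu
  rw [he] at hdvd ⊢
  obtain ⟨k, hk⟩ := hdvd
  have hk0 : k ≠ 0 := by
    rintro rfl
    omega
  have hk2 : k ≤ 2 := by
    by_contra hcon
    push Not at hcon
    have he0 : 0 < e := by
      rcases Nat.eq_zero_or_pos e with h0 | h0
      · rw [h0] at hk; omega
      · exact h0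
    have : e * 3 ≤ e * k := Nat.mul_le_mul_left e hcon
    omega
  rcases (by omega : k = 1 ∨ k = 2) with rfl | rfl
  · left; omega
  · right; omega

end Cfsg.Agent.Lib.Helper54.Zass
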