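import Mathlib
import Cfsg.Prelude.Def_LieExceptional
import Cfsg.Agent.Lib.Helper54.ZassCount

set_option autoImplicit false

namespace Cfsg.Agent.Lib.Helper54.Zass

open MulAction

theorem sharp_of_card {G Ω : Type*} [Group G] [Finite G] [MulAction G Ω] [Finite Ω]
    (hZ : Cfsg.IsZassenhausGroup G Ω) {a b : Ω} (hab : a ≠ b)
    (hcard : Nat.card ↥(stabilizer G a ⊓ stabilizer G b) + 2 = Nat.card Ω) :
    IsMultiplyPretransitive G Ω 3 ∧ ∀ t : Fin 3 ↪ Ω, stabilizer G t = ⊥ := by
  classical
  have := Fintype.ofFinite Ω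
  obtain ⟨hF, h2, h3, -, -⟩ := hZ
  have hstab : ∀ t : Fin 3 ↪ Ω, stabilizer G t = ⊥ := by
    intro t
    rw [Subgroup.eq_bot_iff_forall]
    intro g hg
    rw [mem_stabilizer_iff] at hg
    have hg' : ∀ i, g • t i = t i := fun i => by
      have := DFunLike.congr_fun hg i
      simpa using this
    exact h3 g (t 0) (t 1) (t 2) (fun h => by simpa using t.injective h)
      (fun h => by simpa using t.injective h) (fun h => by simpa using t.injective h)
      (hg' 0) (hg' 1) (hg' 2)
  refine ⟨?_, hstab⟩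
  have hG := card_group h2 hab
  rw [Nat.card_eq_fintype_card (α := Ω)] at hcard
  have hemb : Nat.card (Fin 3 ↪ Ω) = Nat.card G := by
    rw [Nat.card_eq_fintype_card, Fintype.card_embedding_eq, Fintype.card_fin, hG]
    obtain ⟨m, hm⟩ : ∃ m, Fintype.card Ω = m + 2 := ⟨_, hcard.symm⟩
    have he : Nat.card ↥(stabilizer G a ⊓ stabilizer G b) = m := by omega
    rw [he, hm]
    simp [Nat.descFactorial]
    ring
  constructor
  intro x y
  have horb : orbit G x = Set.univ := by
    rw [Set.eq_univ_iff_ncard, ← MulAction.index_stabilizer, hstab, Subgroup.index_bot, hemb]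
  have : y ∈ orbit G x := by rw [horb]; trivial
  exact this

end Cfsg.Agent.Lib.Helper54.Zass
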