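import Mathlib
import Cfsg.Agent.Lib.Helper54.ZassInv

set_option autoImplicit false

namespace Cfsg.Agent.Lib.Helper54.Zass

open MulAction

variable {G Ω : Type*} [Group G] [MulAction G Ω]

/-- the elements swapping two points form a coset of the two point stabiliser -/
theorem card_swap (h2 : IsMultiplyPretransitive G Ω 2) {a d : Ω} (had : a ≠ d) :
    Nat.card {s : G // s • a = d ∧ s • d = a} = Nat.card ↥(stabilizer G a ⊓ stabilizer G d) := by
  obtain ⟨w, hwa, hwd⟩ := two_trans h2 had (Ne.symm had)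
  have f1 : ∀ x : ↥(stabilizer G a ⊓ stabilizer G d), ((x : G) * w) • a = d ∧ ((x : G) * w) • d = a := by
    intro x
    constructor
    · rw [mul_smul, hwa]; exact x.2.2
    · rw [mul_smul, hwd]; exact x.2.1
  have f2 : ∀ s : {s : G // s • a = d ∧ s • d = a},
      (s : G) * w⁻¹ ∈ stabilizer G a ⊓ stabilizer G d := by
    intro s
    refine Subgroup.mem_inf.mpr ⟨?_, ?_⟩
    · rw [mem_stabilizer_iff, mul_smul, inv_smul_eq_iff.mpr hwd.symm]; exact s.2.2
    · rw [mem_stabilizer_iff, mul_smul, inv_smul_eq_iff.mpr hwa.symm]; exact s.2.1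
  exact (Nat.card_congr ⟨fun x => ⟨x * w, f1 x⟩, fun s => ⟨s * w⁻¹, f2 s⟩,
    fun x => Subtype.ext (mul_inv_cancel_right _ _),
    fun s => Subtype.ext (inv_mul_cancel_right _ _)⟩).symm

/-- an element swapping `a`, `d` which inverts the odd order two point stabiliser is an
involution -/
theorem orderOf_swap [Finite G] {a d : Ω} (had : a ≠ d)
    (hodd : Odd (Nat.card ↥(stabilizer G a ⊓ stabilizer G d)))
    (s : G) (hsa : s • a = d) (hsd : s • d = a)
    (hinv : ∀ x ∈ stabilizer G a ⊓ stabilizer G d, s * x * s⁻¹ = x⁻¹) : orderOf s = 2 := by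
  have hs1 : s ≠ 1 := by
    rintro rfl
    rw [one_smul] at hsa
    exact had hsa
  have hmem : s * s ∈ stabilizer G a ⊓ stabilizer G d := by
    refine Subgroup.mem_inf.mpr ⟨?_, ?_⟩
    · rw [mem_stabilizer_iff, mul_smul, hsa, hsd]
    · rw [mem_stabilizer_iff, mul_smul, hsd, hsa]
  have h1 := hinv _ hmem
  have h4 : (s * s) ^ 2 = 1 := by
    have e1 : s * (s * s) * s⁻¹ = s * s := by group
    rw [e1] at h1
    rw [pow_two]
    nth_rewrite 2 [h1]
    exact mul_inv_cancel _
  have h5 : orderOf (s * s) ∣ 2 := orderOf_dvd_of_pow_eq_one h4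
  have h6 : orderOf (s * s) ∣ Nat.card ↥(stabilizer G a ⊓ stabilizer G d) := by
    have : orderOf (s * s) = orderOf (⟨s * s, hmem⟩ : ↥(stabilizer G a ⊓ stabilizer G d)) := by
      rw [Subgroup.orderOf_mk]
    rw [this]
    exact orderOf_dvd_natCard _
  have h7 : orderOf (s * s) = 1 := by
    rcases (Nat.dvd_prime Nat.prime_two).mp h5 with h | h
    · exact h
    · exfalso
      rw [h] at h6
      obtain ⟨k, hk⟩ := hodd
      omega
  rw [orderOf_eq_one_iff] at h7
  exact orderOf_eq_prime (by rw [pow_two]; exact h7) hs1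

/-- two elements swapping `a`, `d` and inverting the two point stabiliser are conjugate -/
theorem isConj_swap [Finite G] {a d : Ω}
    (hodd : Odd (Nat.card ↥(stabilizer G a ⊓ stabilizer G d)))
    (w s : G) (hwa : w • a = d) (hwd : w • d = a) (hsa : s • a = d) (hsd : s • d = a)
    (hinv : ∀ x ∈ stabilizer G a ⊓ stabilizer G d, w * x * w⁻¹ = x⁻¹) : IsConj w s := by
  have hmem : s * w⁻¹ ∈ stabilizer G a ⊓ stabilizer G d := by
    refine Subgroup.mem_inf.mpr ⟨?_, ?_⟩
    · rw [mem_stabilizer_iff, mul_smul, inv_smul_eq_iff.mpr hwd.symm]; exact hsd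
    · rw [mem_stabilizer_iff, mul_smul, inv_smul_eq_iff.mpr hwa.symm]; exact hsa
  obtain ⟨k, hk⟩ := hodd
  have hpow : (s * w⁻¹) ^ (2 * k + 1) = 1 := by
    rw [← hk]
    have := pow_card_eq_one' (x := (⟨s * w⁻¹, hmem⟩ : ↥(stabilizer G a ⊓ stabilizer G d)))
    exact congrArg Subtype.val this
  have hy : (s * w⁻¹) ^ (k + 1) ∈ stabilizer G a ⊓ stabilizer G d := Subgroup.pow_mem _ hmem _
  have hyy : (s * w⁻¹) ^ (k + 1) * (s * w⁻¹) ^ (k + 1) = s * w⁻¹ := by
    rw [← pow_add]
    have : k + 1 + (k + 1) = (2 * k + 1) + 1 := by ring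
    rw [this, pow_succ, hpow, one_mul]
  rw [isConj_iff]
  refine ⟨(s * w⁻¹) ^ (k + 1), ?_⟩
  have h1 := hinv _ (Subgroup.inv_mem _ hy)
  rw [inv_inv] at h1
  generalize (s * w⁻¹) ^ (k + 1) = y at *
  calc y * w * y⁻¹ = y * (w * y⁻¹ * w⁻¹) * w := by group
    _ = y * y * w := by rw [h1, mul_assoc y y w]
    _ = s := by rw [hyy, inv_mul_cancel_right]

/-- The involutions in the even degree case, given that swapping elements invert two point
stabilisers. -/
theorem invol_even_degree [Finite G] [Fintype Ω] [FaithfulSMul G Ω]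
    (h2 : IsMultiplyPretransitive G Ω 2) {a b : Ω} (hab : a ≠ b)
    (hodd : Odd (Nat.card ↥(stabilizer G a ⊓ stabilizer G b)))
    (hodd' : Odd (Fintype.card Ω - 1))
    (hinv : ∀ d : Ω, a ≠ d → ∀ s : G, s • a = d → s • d = a →
      ∀ x ∈ stabilizer G a ⊓ stabilizer G d, s * x * s⁻¹ = x⁻¹) :
    (∀ x y : G, orderOf x = 2 → orderOf y = 2 → IsConj x y) ∧
      Nat.card {x : G // orderOf x = 2} =
        Nat.card ↥(stabilizer G a ⊓ stabilizer G b) * (Fintype.card Ω - 1) := by
  classical
  have := Fintype.ofFinite G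
  have hfa : ∀ t : G, orderOf t = 2 → t • a ≠ a := by
    intro t ht hta
    have hta' : t ∈ stabilizer G a := hta
    have h1 : orderOf t ∣ Nat.card ↥(stabilizer G a) := by
      have : orderOf t = orderOf (⟨t, hta'⟩ : stabilizer G a) := by rw [Subgroup.orderOf_mk]
      rw [this]
      exact orderOf_dvd_natCard _
    rw [ht, card_stab h2 hab] at h1
    have := hodd'.mul hodd
    rw [← Nat.not_even_iff_odd] at this
    exact this (even_iff_two_dvd.mpr h1)
  constructor
  · intro x y hx hy
    obtain ⟨g1, -, h1a, h1b⟩ := Helper16.exists_conj_swap h2 x hx hab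
    obtain ⟨g2, -, h2a, h2b⟩ := Helper16.exists_conj_swap h2 y hy hab
    have c1 : IsConj x (g1 * x * g1⁻¹) := isConj_iff.mpr ⟨g1, rfl⟩
    have c2 : IsConj y (g2 * y * g2⁻¹) := isConj_iff.mpr ⟨g2, rfl⟩
    exact c1.trans ((isConj_swap hodd _ _ h1a h1b h2a h2b (hinv b hab _ h1a h1b)).trans c2.symm)
  · have h0 : Nat.card {x : G // orderOf x = 2} =
        (Finset.univ.filter (fun x : G => orderOf x = 2)).card :=
      Nat.subtype_card _ (by intro x; simp)
    rw [h0]
    have hmaps : Set.MapsTo (fun t : G => t • a)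
        ((Finset.univ.filter (fun x : G => orderOf x = 2) : Finset G) : Set G)
        (((Finset.univ : Finset Ω).erase a : Finset Ω) : Set Ω) := by
      intro t ht
      have ht' : orderOf t = 2 := by simpa using ht
      simpa using hfa t ht'
    rw [Finset.card_eq_sum_card_fiberwise hmaps]
    have hfib : ∀ d ∈ (Finset.univ : Finset Ω).erase a,
        ((Finset.univ.filter (fun x : G => orderOf x = 2)).filter (fun t : G => t • a = d)).card =
          Nat.card ↥(stabilizer G a ⊓ stabilizer G b) := by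
      intro d hd
      have had : a ≠ d := Ne.symm (Finset.ne_of_mem_erase hd)
      rw [← card_stab2_eq h2 hab had, ← card_swap h2 had]
      refine (Nat.subtype_card _ ?_).symm
      intro t
      simp only [Finset.mem_filter, Finset.mem_univ, true_and]
      constructor
      · rintro ⟨ht, hta⟩
        refine ⟨hta, ?_⟩
        rw [← hta, ← mul_smul, Helper60.sq_eq_one_of_orderOf_two ht, one_smul]
      · rintro ⟨hta, htd⟩
        refine ⟨orderOf_swap had ?_ t hta htd (hinv d had t hta htd), hta⟩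
        rw [card_stab2_eq h2 hab had]
        exact hodd
    rw [Finset.sum_congr rfl hfib, Finset.sum_const, Finset.card_erase_of_mem (Finset.mem_univ _),
      Finset.card_univ, smul_eq_mul, mul_comm]

end Cfsg.Agent.Lib.Helper54.Zass
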