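import Mathlib
import Cfsg.Prelude.Def_LieExceptional
import Cfsg.Agent.Lib.Helper54.ZassDich
import Cfsg.Agent.S0739
import Cfsg.Agent.S0740
import Cfsg.Agent.S0339
import Cfsg.Agent.S0885

set_option autoImplicit false

namespace Cfsg.Agent.Lib.Helper54.Zass

open MulAction

theorem inv_odd {G Ω : Type*} [Group G] [Finite G] [MulAction G Ω] [Finite Ω]
    (hZ : Cfsg.IsZassenhausGroup G Ω) {a b : Ω} (hab : a ≠ b) (F : Subgroup G)
    (hFle : F ≤ stabilizer G a) (hFab : ∀ u ∈ F, ∀ v ∈ F, u * v = v * u)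
    (hreg : ∀ y z : Ω, y ≠ a → z ≠ a → ∃! u : F, (u : G) • y = z)
    (hodd : Odd (Nat.card ↥(stabilizer G a ⊓ stabilizer G b)))
    (hcard : 2 * Nat.card ↥(stabilizer G a ⊓ stabilizer G b) + 2 = Nat.card Ω) :
    ∃ w : G, w • a = b ∧ w • b = a ∧ w * w = 1 ∧
      ∀ h ∈ stabilizer G a ⊓ stabilizer G b, w * h * w⁻¹ = h⁻¹ := by
  classical
  have := Fintype.ofFinite Ω
  rw [Nat.card_eq_fintype_card (α := Ω)] at hcard
  obtain ⟨⟨w, hwo, hwa, hwb⟩, -, -⟩ := Cfsg.Agent.S0740.result hZ hab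
  refine ⟨w, hwa, hwb, ?_, ?_⟩
  · have := pow_orderOf_eq_one w
    rwa [hwo, pow_two] at this
  refine (Cfsg.Agent.S0739.result hZ hab hodd ?_).2.2 w hwa hwb
  rintro q hq hqe ⟨N, hN, hNi⟩
  obtain ⟨e, he⟩ : ∃ e, Nat.card ↥(stabilizer G a ⊓ stabilizer G b) = e := ⟨_, rfl⟩
  rw [he] at hqe hcard hodd
  have hG := card_group hZ.2.1 hab
  rw [he] at hG
  have hFcard := reg_card hab F hFle hreg
  have hFc : Nat.card F = 2 * e + 1 := by omega
  have hcop : Nat.Coprime (2 * e + 1) q := by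
    rw [Nat.coprime_comm, Nat.Prime.coprime_iff_not_dvd hq]
    intro h
    have h1 : q ∣ 2 * e := Dvd.dvd.mul_left hqe 2
    have h2 : q ∣ 1 := (Nat.dvd_add_right h1).mp h
    exact hq.one_lt.ne' (Nat.dvd_one.mp h2)
  obtain ⟨k, hk⟩ : ∃ k, k = (Nat.card G).factorization q := ⟨_, rfl⟩
  rw [← hk] at hNi
  -- F ≤ N
  have hFN : F ≤ N := by
    intro u hu
    have h1 : orderOf (QuotientGroup.mk' N u) ∣ 2 * e + 1 := by
      rw [← hFc]
      refine (orderOf_map_dvd _ u).trans ?_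
      have : orderOf u = orderOf (⟨u, hu⟩ : F) := by rw [Subgroup.orderOf_mk]
      rw [this]
      exact orderOf_dvd_natCard _
    have h2 : orderOf (QuotientGroup.mk' N u) ∣ q ^ k := by
      rw [← hNi, Subgroup.index_eq_card]
      exact orderOf_dvd_natCard _
    have h3 : orderOf (QuotientGroup.mk' N u) = 1 :=
      Nat.eq_one_of_dvd_coprimes (hcop.pow_right k) h1 h2
    rw [orderOf_eq_one_iff] at h3
    exact (QuotientGroup.eq_one_iff u).mp h3
  have hN1 : N ≠ ⊥ := by
    rintro rfl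
    have h1 : Nat.card F = 1 := by
      rw [le_bot_iff] at hFN
      rw [hFN]
      exact Subgroup.card_bot
    have : 0 < e := Nat.pos_of_dvd_of_pos hqe (by
      rcases Nat.eq_zero_or_pos e with h0 | h0
      · rw [h0] at hodd; simp at hodd
      · exact h0) |>.trans_le (Nat.le_of_dvd (by
      rcases Nat.eq_zero_or_pos e with h0 | h0
      · rw [h0] at hodd; simp at hodd
      · exact h0) hqe)
    omega
  have hZN := Cfsg.Agent.S0339.result hZ N hN1
  obtain ⟨e', he'⟩ : ∃ e', Nat.card ↥(stabilizer N a ⊓ stabilizer N b) = e' := ⟨_, rfl⟩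
  have hdvd : e' ∣ e := by
    rw [← he, ← he']
    let f : ↥(stabilizer N a ⊓ stabilizer N b) →* ↥(stabilizer G a ⊓ stabilizer G b) :=
      MonoidHom.codRestrict (N.subtype.comp (Subgroup.subtype _)) _ (by
        rintro ⟨⟨x, hxN⟩, hx⟩
        exact Subgroup.mem_inf.mpr ⟨hx.1, hx.2⟩)
    apply Subgroup.card_dvd_of_injective f
    intro x y hxy
    apply Subtype.ext
    apply Subtype.ext
    exact congrArg (fun z : ↥(stabilizer G a ⊓ stabilizer G b) => (z : G)) hxy
  have hqN : ¬ q ∣ Nat.card N := by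
    intro h
    have h1 := N.card_mul_index
    rw [hNi] at h1
    have h2 : q ^ (k + 1) ∣ Nat.card G := by
      rw [← h1, pow_succ, mul_comm]
      exact Nat.mul_dvd_mul_right h _
    rw [hk] at h2
    exact Nat.pow_succ_factorization_not_dvd Nat.card_pos.ne' hq h2
  have hqe' : ¬ q ∣ e' := by
    intro h
    apply hqN
    rw [← he'] at h
    exact h.trans (Subgroup.card_subgroup_dvd_card _)
  have hlt : e' < e := by
    have he0 : 0 < e := by
      rcases Nat.eq_zero_or_pos e with h0 | h0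
      · rw [h0] at hodd; simp at hodd
      · exact h0
    rcases (Nat.le_of_dvd he0 hdvd).lt_or_eq with h | h
    · exact h
    · exact absurd (h ▸ hqe) hqe'
  have hodd' : Odd e' := by
    obtain ⟨c, hc⟩ := hdvd
    rw [hc] at hodd
    exact (Nat.odd_mul.mp hodd).1
  obtain ⟨h, hh⟩ : ∃ h, Fintype.card Ω = h + 1 := ⟨Fintype.card Ω - 1, by omega⟩
  have hHa : F.subgroupOf N ≤ stabilizer N a := by
    intro x hx
    rw [Subgroup.mem_subgroupOf] at hx
    exact hFle hx
  have hHcard : Nat.card (F.subgroupOf N) + 1 = Fintype.card Ω := by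
    rw [Nat.card_congr (Subgroup.subgroupOfEquivOfLe hFN).toEquiv]
    exact hFcard
  have hHfix : ∀ u ∈ F.subgroupOf N, u ≠ 1 → ∀ c : Ω, u • c = c → c = a := by
    intro u hu hu1 c hc
    rw [Subgroup.mem_subgroupOf] at hu
    exact reg_fix F hreg u hu (fun h => hu1 (Subtype.ext h)) c hc
  rcases Cfsg.Agent.S0885.result hZN hab h e' hh he' hodd' (F.subgroupOf N) hHa hHcard hHfix
    with h' | ⟨-, ⟨u, u', huu⟩, -⟩
  · omega
  · apply huu
    apply Subtype.ext
    apply Subtype.ext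
    exact hFab _ (Subgroup.mem_subgroupOf.mp u.2) _ (Subgroup.mem_subgroupOf.mp u'.2)

end Cfsg.Agent.Lib.Helper54.Zass
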