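import Cfsg.Agent.Lib.Helper39.BG11Defs
import Cfsg.Agent.Lib.Helper69.BG36C0
import Cfsg.Agent.S1408

set_option autoImplicit false

/-! Rung 10 of helper39's ladder towards S1417 (B-G 12.5): `A` centralizes every `A`-invariant Sylow
`r`-subgroup of `O_{p'}(M)`, `r ∉ σ(M)`. -/

namespace Cfsg.Agent.Lib.Helper54.BG11

open Subgroup Cfsg.Agent.Lib.Helper30 Cfsg.Agent.Lib.Helper39.BG11

universe u
variable {G : Type u} [Group G] [Finite G]

theorem ne_two_of_isPGroup (hG : Cfsg.IsMinSimpleOddOrder G) {r : ℕ} [Fact r.Prime]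
    {T : Subgroup G} (hT : IsPGroup r T) (hne : T ≠ ⊥) : r ≠ 2 := by
  rintro rfl
  rcases hT.card_eq_or_dvd with h | h
  · exact hne (card_eq_one.mp h)
  · have h1 : 2 ∣ Nat.card G := h.trans (card_subgroup_dvd_card T)
    have h2 := hG.1
    rw [Nat.odd_iff] at h2
    omega

theorem dvd_card_of_isPGroup {r : ℕ} [Fact r.Prime] {T : Subgroup G} (hT : IsPGroup r T)
    (hne : T ≠ ⊥) : r ∣ Nat.card T := by
  rcases hT.card_eq_or_dvd with h | h
  · exact absurd (card_eq_one.mp h) hne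
  · exact h

theorem le_normalizer_of_conj_mem {A Y : Subgroup G}
    (h : ∀ a ∈ A, ∀ y ∈ Y, a * y * a⁻¹ ∈ Y) : A ≤ normalizer (Y : Set G) := by
  intro a ha
  rw [mem_normalizer_iff]
  intro y
  refine ⟨h a ha y, fun hy => ?_⟩
  have := h a⁻¹ (A.inv_mem ha) _ hy
  simpa [mul_assoc] using this

theorem sylow_comm (hG : Cfsg.IsMinSimpleOddOrder G) (h16 : T16 G) (h11 : T11 G)
    {M : Subgroup G} (hM : IsCoatom M) {r : ℕ} [Fact r.Prime] (hr : r ∉ Cfsg.sigma M)
    {T : Subgroup G} (hT : IsSylowIn r T M) : ∀ x ∈ T, ∀ y ∈ T, x * y = y * x := by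
  by_cases hc : IsCyclic T
  · intro x hx y hy
    have := (IsCyclic.isMulCommutative (α := T)).is_comm.comm ⟨x, hx⟩ ⟨y, hy⟩
    exact congrArg Subtype.val this
  · have hne : T ≠ ⊥ := by
      rintro rfl
      exact hc inferInstance
    obtain ⟨B, hBT, hBea, hBcard⟩ := Cfsg.Agent.Lib.Helper28.BG12.exists_ea_sq_of_not_cyclic
      (ne_two_of_isPGroup hG hT.isPGroup hne) hT.isPGroup hc
    obtain ⟨B₀, hyp⟩ := h16 M r B hM hr (hBT.trans hT.le) hBea hBcard
    exact (h11 M r B B₀ hyp).comm T hT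

theorem sigma_inf_centralizer_eq_bot {M A : Subgroup G} {p : ℕ} (res : Res M p A) :
    Cfsg.sigmaCore M ⊓ centralizer (A : Set G) = ⊥ := by
  obtain ⟨A₁, A₂, hA₁, -, -, -, -, h1, -⟩ := res.fpf2
  rw [eq_bot_iff, ← h1]
  exact inf_le_inf_left _ (centralizer_le (SetLike.coe_subset_coe.mpr hA₁))

/-- a Sylow `r`-subgroup of `M` is not cyclic when the `r`-rank of `M` exceeds one -/
theorem not_isCyclic_of_not_pRankLE {M : Subgroup G} {r : ℕ} [Fact r.Prime]
    (hrank : ¬ Cfsg.PRankLE r 1 M) {T : Subgroup G} (hT : IsSylowIn r T M) : ¬ IsCyclic T := by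
  intro hc
  apply hrank
  intro A' hA'c hA'e
  obtain ⟨A'', hA''⟩ : ∃ A'', A'' = A'.map M.subtype := ⟨_, rfl⟩
  have hle : A'' ≤ M := hA'' ▸ map_subtype_le A'
  have hexp : ∀ a ∈ A'', a ^ r = 1 := by
    rw [hA'']
    rintro _ ⟨a, ha, rfl⟩
    have := hA'e a ha
    exact congrArg Subtype.val this
  have hpg : IsPGroup r A'' := by
    intro a
    refine ⟨1, Subtype.ext ?_⟩
    rw [pow_one]
    exact hexp a a.2
  obtain ⟨T'', hT'', hAT''⟩ := exists_isSylowIn_ge hle hpg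
  obtain ⟨k, -, hk⟩ := hT.conj hT''
  haveI : IsCyclic T'' := by
    rw [hk]
    exact (MulEquiv.isCyclic (T.equivMapOfInjective _ (MulAut.conj k).injective)).mp hc
  haveI : IsCyclic A'' := isCyclic_of_le hAT''
  have hcard : Nat.card A' = Nat.card A'' := by
    rw [hA'', card_map_of_injective M.subtype_injective]
  rw [hcard, pow_one, ← IsCyclic.exponent_eq_card]
  apply Nat.le_of_dvd (Fact.out : r.Prime).pos
  apply Monoid.exponent_dvd_of_forall_pow_eq_one
  intro a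
  exact Subtype.ext (hexp a a.2)

theorem s10 (hG : Cfsg.IsMinSimpleOddOrder G) (h16 : T16 G) (h11 : T11 G) (hne : SNe G)
    (h5b : S5b G) (h7 : S7 G) (h8 : S8 G) (h9 : S9 G)
    (hx : ∀ (p r : ℕ) [Fact p.Prime] [Fact r.Prime] (Y : Subgroup G) (a : G), Nat.card Y = r →
      a ∈ normalizer (Y : Set G) → a ^ p = 1 → a ∉ centralizer (Y : Set G) → p < r)
    (hy : ∀ (M : Subgroup G) (p r : ℕ) [Fact p.Prime] [Fact r.Prime] (T : Subgroup G), IsCoatom M →
      p ∉ Cfsg.sigma M → p ∣ Nat.card M → p < r →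
      IsSylowIn r T (Cfsg.Agent.Lib.Helper28.opPrimeIn p M) → IsSylowIn r T M) : S10 G := by
  intro M p _ A A₀ r _ T h hr hT hAT
  have hpp : p.Prime := Fact.out
  have hrr : r.Prime := Fact.out
  have hKM := Cfsg.Agent.Lib.Helper28.opPrimeIn_le p M
  have hTM : T ≤ M := hT.le.trans hKM
  by_cases hrp : r = p
  · subst hrp
    have h1 : (Nat.card T).Coprime r :=
      Nat.Coprime.coprime_dvd_left (card_dvd_of_le hT.le)
        (Cfsg.Agent.Lib.Helper28.opPrimeIn_coprime r M)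
    have h2 : T = ⊥ := by
      by_contra hTne
      have h3 := dvd_card_of_isPGroup hT.isPGroup hTne
      exact hrr.one_lt.ne' (Nat.eq_one_of_dvd_coprimes h1 h3 dvd_rfl)
    rw [h2]
    exact bot_le
  have hMtop : M ≠ ⊤ := h.max.1
  have hAsol : Group.IsSolvable A :=
    solvable_of_ne_top hG (fun h' => hMtop (top_le_iff.mp (h' ▸ h.le)))
  have hApg : IsPGroup p A := IsPGroup.of_card h.card
  have hcopX : ∀ X : Subgroup G, IsPGroup r X → (Nat.card A).Coprime (Nat.card X) := by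
    intro X hX
    obtain ⟨n, hn⟩ := IsPGroup.iff_card.mp hX
    rw [h.card, hn]
    exact Nat.Coprime.pow _ _ ((Nat.coprime_primes hpp hrr).mpr (Ne.symm hrp))
  obtain ⟨T', hT', hTT'⟩ := exists_isSylowIn_ge hTM hT.isPGroup
  have hT'comm := sylow_comm hG h16 h11 h.max hr hT'
  by_contra hcon
  obtain ⟨R, hRdef⟩ : ∃ R, R = ⁅T, A⁆ := ⟨_, rfl⟩
  have hRne : R ≠ ⊥ := by
    rw [hRdef]
    intro h0
    exact hcon (commutator_eq_bot_iff_le_centralizer.mp h0)
  have hRT : R ≤ T := hRdef ▸ commutator_le_of_le_normalizer hAT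
  have hAR : A ≤ normalizer (R : Set G) := hRdef ▸ le_normalizer_commutator hAT le_normalizer
  have hTc : IsMulCommutative T :=
    ⟨⟨fun x y => Subtype.ext (hT'comm x (hTT' x.2) y (hTT' y.2))⟩⟩
  have hRC : R ⊓ centralizer (A : Set G) = ⊥ := by
    rw [hRdef]
    exact Cfsg.Agent.Lib.Helper69.commutator_inf_centralizer_eq_bot T A hTc hAT
      (hcopX T hT.isPGroup).symm
  have hRpg : IsPGroup r R := hT.isPGroup.to_le hRT
  have hRσ : R ≤ centralizer (Cfsg.sigmaCore M : Set G) :=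
    h7 M p A A₀ r R h hr hrp (hRT.trans hTM) hRpg hAR hRC
  have hrM' : r ∣ Nat.card ↥⁅M, M⁆ := by
    have h1 : R ≤ ⁅M, M⁆ := hRdef ▸ commutator_mono hTM h.le
    exact (dvd_card_of_isPGroup hRpg hRne).trans (card_dvd_of_le h1)
  have hrank : ¬ Cfsg.PRankLE r 1 M := by
    intro hk
    exact hRne (h8 M r R h.max ⟨hrr, hr, hrM', hk⟩ (hRT.trans hTM) hRpg hRσ)
  have hncyc := not_isCyclic_of_not_pRankLE hrank hT'
  have hT'ne : T' ≠ ⊥ := by
    rintro rfl
    exact hncyc inferInstance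
  obtain ⟨B, hBT', hBea, hBcard⟩ := Cfsg.Agent.Lib.Helper28.BG12.exists_ea_sq_of_not_cyclic
    (ne_two_of_isPGroup hG hT'.isPGroup hT'ne) hT'.isPGroup hncyc
  obtain ⟨B₀, hypB⟩ := h16 M r B h.max hr (hBT'.trans hT'.le) hBea hBcard
  have res' := h11 M r B B₀ hypB
  have hT'CB : T' ≤ centralizer (B : Set G) := by
    intro x hx
    rw [mem_centralizer_iff]
    intro b hb
    exact hT'comm b (hBT' hb) x hx
  have homega : ∀ x ∈ T', x ^ r = 1 ↔ x ∈ B := fun x hx => res'.omega x (hT'CB hx)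
  have hfpf := sigma_inf_centralizer_eq_bot res'
  have hBpg : IsPGroup r B := IsPGroup.of_card hBcard
  -- the subgroup `Y`
  obtain ⟨Y, hYdef⟩ : ∃ Y, Y = R ⊓ B := ⟨_, rfl⟩
  have hYR : Y ≤ R := hYdef ▸ inf_le_left
  have hYB : Y ≤ B := hYdef ▸ inf_le_right
  have hYmem : ∀ x ∈ R, x ^ r = 1 → x ∈ Y := by
    intro x hx hxr
    rw [hYdef]
    exact ⟨hx, (homega x (hTT' (hRT hx))).mp hxr⟩
  have hAY : A ≤ normalizer (Y : Set G) := by
    apply le_normalizer_of_conj_mem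
    intro a ha y hy
    apply hYmem
    · exact (mem_normalizer_iff.mp (hAR ha) y).mp (hYR hy)
    · rw [conj_pow, hBea.2 y (hYB hy), mul_one, mul_inv_cancel]
  have hYne : Y ≠ ⊥ := by
    obtain ⟨x, hx⟩ := exists_prime_orderOf_dvd_card' (G := R) r (dvd_card_of_isPGroup hRpg hRne)
    intro h0
    have h1 : (x : G) ∈ Y := by
      apply hYmem _ x.2
      have := pow_orderOf_eq_one x
      rw [hx] at this
      exact congrArg Subtype.val this
    rw [h0, mem_bot] at h1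
    have h2 : x = 1 := Subtype.ext h1
    rw [h2, orderOf_one] at hx
    exact hrr.one_lt.ne hx
  have hYneB : Y ≠ B := by
    intro h0
    have h1 : B ≤ centralizer (Cfsg.sigmaCore M : Set G) := (h0 ▸ hYR).trans hRσ
    have h2 : Cfsg.sigmaCore M ≤ centralizer (B : Set G) := le_centralizer_iff.mp h1
    apply hne M h.max
    rw [eq_bot_iff, ← hfpf]
    exact le_inf le_rfl h2
  have hYcard : Nat.card Y = r := by
    have h1 : Nat.card Y ∣ r ^ 2 := hBcard ▸ card_dvd_of_le hYB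
    obtain ⟨k, hk, hk'⟩ := (Nat.dvd_prime_pow hrr).mp h1
    rcases (by omega : k = 0 ∨ k = 1 ∨ k = 2) with rfl | rfl | rfl
    · rw [pow_zero] at hk'
      exact absurd (card_eq_one.mp hk') hYne
    · rw [hk', pow_one]
    · exact absurd (eq_of_le_of_card_ge hYB (by rw [hk', hBcard])) hYneB
  have hYC : Y ⊓ centralizer (A : Set G) = ⊥ := by
    rw [eq_bot_iff, ← hRC]
    exact inf_le_inf_right _ hYR
  have hYnC : ¬ Y ≤ centralizer (A : Set G) := by
    intro h0
    apply hYne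
    rw [eq_bot_iff, ← hYC]
    exact le_inf le_rfl h0
  obtain ⟨a, ha, hna⟩ : ∃ a ∈ A, a ∉ centralizer (Y : Set G) := by
    by_contra hall
    push Not at hall
    exact hYnC (le_centralizer_iff.mp hall)
  have hlt : p < r := hx p r Y a hYcard (hAY ha) (h.ea.2 a ha) hna
  have hpM : p ∣ Nat.card M := by
    have h1 : p ∣ Nat.card A := by rw [h.card]; exact dvd_pow_self p two_ne_zero
    exact h1.trans (card_dvd_of_le h.le)
  have hTsyl : IsSylowIn r T M := hy M p r T h.max h.ns hpM hlt hT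
  have hTeq : T' = T := hTsyl.eq_of_le hT'.le hT'.isPGroup hTT'
  subst hTeq
  have hAB : A ≤ normalizer (B : Set G) := by
    apply le_normalizer_of_conj_mem
    intro a ha b hb
    rw [← homega _ ((mem_normalizer_iff.mp (hAT ha) b).mp (hBT' hb))]
    rw [conj_pow, hBea.2 b hb, mul_one, mul_inv_cancel]
  have hBA : ⁅B, A⁆ ≤ Y := by
    rw [hYdef, hRdef]
    exact le_inf (commutator_mono hBT' le_rfl) (commutator_le_of_le_normalizer hAB)
  have hBC : B ⊓ centralizer (A : Set G) ≠ ⊥ := by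
    intro h0
    have h1 := commutator_sup_centralizer hAB (hcopX B hBpg) (Or.inl hAsol)
    rw [h0, sup_bot_eq] at h1
    exact hYneB (le_antisymm hYB (h1 ▸ hBA))
  have hBne : B ≠ ⊥ := by
    rintro rfl
    exact hBC (by simp)
  have hBtop : B ≠ ⊤ := fun h' => hMtop (top_le_iff.mp (h' ▸ (hBT'.trans hT'.le)))
  obtain ⟨L, hL, hNL⟩ := Cfsg.Agent.Lib.Helper2.exists_coatom_ge (normalizer_ne_top hG hBne hBtop)
  have hrL : r ∈ Cfsg.sigma L := h5b M r B B₀ L hypB hL hNL
  have hAL : A ≤ L := hAB.trans hNL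
  have hBL : B ≤ L := le_normalizer.trans hNL
  have hBLσ : B ≤ Cfsg.sigmaCore L :=
    Cfsg.Agent.Lib.Helper28.BG12.isPGroup_le_sigmaCore hG hL hrL hBL hBpg
  have hpL : p ∈ Cfsg.sigma L := by
    by_contra hpL
    obtain ⟨A₀', hyp'⟩ := h16 L p A hL hpL hAL h.ea h.card
    have h1 := sigma_inf_centralizer_eq_bot (h11 L p A A₀' hyp')
    apply hBC
    rw [eq_bot_iff, ← h1]
    exact inf_le_inf_right _ hBLσ
  have hnotideal := (Cfsg.Agent.S1408.result hG M h.max r hr
    (Cfsg.Agent.Lib.Helper28.BG12.pRankLE_two_of_not_mem_sigma hG h.max hrr hr) hrank).1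
  exact hYnC (h9 L p r A Y hL hpL hrL hrp hnotideal hAL (hYB.trans hBL) hApg (hBpg.to_le hYB) hAY)

end Cfsg.Agent.Lib.Helper54.BG11
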