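import Mathlib

set_option autoImplicit false

/-! Rung 10x of helper39's ladder towards S1417 (B-G 12.5). -/

namespace Cfsg.Agent.Lib.Helper54.BG11

open Subgroup

universe u
variable {G : Type u} [Group G] [Finite G] {p : ℕ} [Fact p.Prime]

theorem lt_of_nontrivial_action {r : ℕ} [Fact r.Prime] {Y : Subgroup G} {a : G}
    (hY : Nat.card Y = r) (ha : a ∈ normalizer (Y : Set G)) (hap : a ^ p = 1)
    (hna : a ∉ centralizer (Y : Set G)) : p < r := by
  have hr : r.Prime := Fact.out
  haveI : IsCyclic Y := isCyclic_of_prime_card hY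
  obtain ⟨φ, hφ⟩ : ∃ φ : MulAut Y, ∀ y : Y, ((φ y : Y) : G) = a * y * a⁻¹ :=
    ⟨Y.normalizerMonoidHom ⟨a, ha⟩, fun y => rfl⟩
  have hpow : ∀ (n : ℕ) (y : Y), (((φ ^ n) y : Y) : G) = a ^ n * y * (a ^ n)⁻¹ := by
    intro n
    induction n with
    | zero => intro y; simp
    | succ n ih =>
      intro y
      rw [pow_succ', MulAut.mul_apply, hφ, ih, pow_succ']
      group
  have h1 : φ ^ p = 1 := by
    ext y
    rw [hpow, hap]
    simp
  have h2 : φ ≠ 1 := by
    intro h
    apply hna
    rw [mem_centralizer_iff]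
    intro y hy
    have := hφ ⟨y, hy⟩
    rw [h] at this
    simp only [MulAut.one_apply] at this
    rw [eq_mul_inv_iff_mul_eq] at this
    exact this
  have h3 : orderOf φ = p := orderOf_eq_prime h1 h2
  have h4 : p ∣ Nat.card (MulAut Y) := h3 ▸ orderOf_dvd_natCard φ
  rw [IsCyclic.card_mulAut, hY, Nat.totient_prime hr] at h4
  have h5 := Nat.le_of_dvd (by have := hr.two_le; omega) h4
  have := hr.two_le
  omega

end Cfsg.Agent.Lib.Helper54.BG11
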