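import Cfsg.Agent.Lib.Helper39.BG11Defs
import Cfsg.Agent.S1414

set_option autoImplicit false

/-! Rung 10y of helper39's ladder towards S1417 (B-G 12.5). -/

namespace Cfsg.Agent.Lib.Helper54.BG11

open Subgroup Cfsg.Agent.Lib.Helper30 Cfsg.Agent.Lib.Helper39.BG11

universe u
variable {G : Type u} [Group G] [Finite G] {M : Subgroup G} {p : ℕ} [Fact p.Prime]

theorem isSylowIn_of_lt (hG : Cfsg.IsMinSimpleOddOrder G) (hM : IsCoatom M)
    (hp : p ∉ Cfsg.sigma M) (hpM : p ∣ Nat.card M) {r : ℕ} [Fact r.Prime] (hlt : p < r)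
    {T : Subgroup G} (hT : IsSylowIn r T (Cfsg.Agent.Lib.Helper28.opPrimeIn p M)) :
    IsSylowIn r T M := by
  have hpβ : p ∉ Cfsg.beta M := by
    intro h
    exact hp (Cfsg.Agent.Lib.Helper68.mem_sigma_of_mem_alpha hG
      (Cfsg.Agent.Lib.Helper28.BG12.ut hG) hM h.1)
  have h14 := ((Cfsg.Agent.S1414.result hG M hM).2.2.2.2 p Fact.out hpM hpβ).2.2
  have hKM := Cfsg.Agent.Lib.Helper28.opPrimeIn_le p M
  refine ⟨hT.le.trans hKM, hT.isPGroup, ?_⟩
  rw [← relIndex_mul_relIndex T _ M hT.le hKM]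
  intro hdvd
  rcases (Nat.Prime.dvd_mul (Fact.out : r.Prime)).mp hdvd with h | h
  · exact hT.not_dvd h
  · have h1 : (Cfsg.Agent.Lib.Helper28.opPrimeIn p M).relIndex M =
        (Cfsg.pPrimeCore p ↥M).index := by
      unfold relIndex Cfsg.Agent.Lib.Helper28.opPrimeIn
      rw [Cfsg.Agent.Lib.Helper28.subgroupOf_map_subtype']
    rw [h1] at h
    have := h14 r Fact.out h
    omega

end Cfsg.Agent.Lib.Helper54.BG11
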