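import Mathlib.GroupTheory.Sylow
import Mathlib.GroupTheory.Nilpotent
import Mathlib.GroupTheory.Commutator.Basic

set_option autoImplicit false

namespace Cfsg.Agent.Lib.Helper54

open scoped commutatorElement

variable {G : Type*} [Group G]

/-- An element stabilising `H` and `K` under conjugation stabilises `⁅H, K⁆`. -/
theorem conj_mem_commutator_of_conj_mem {H K : Subgroup G} {g : G} (hH : ∀ h ∈ H, g * h * g⁻¹ ∈ H)
    (hK : ∀ k ∈ K, g * k * g⁻¹ ∈ K) {x : G} (hx : x ∈ ⁅H, K⁆) : g * x * g⁻¹ ∈ ⁅H, K⁆ := by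
  have h1 : (⁅H, K⁆).map (MulAut.conj g).toMonoidHom ≤ ⁅H, K⁆ := by
    rw [Subgroup.map_commutator]
    apply Subgroup.commutator_mono
    · rintro _ ⟨h, hh, rfl⟩; exact hH h hh
    · rintro _ ⟨k, hk, rfl⟩; exact hK k hk
  exact h1 ⟨x, hx, rfl⟩

/-- `H` normalises `⁅H, K⁆`. -/
theorem conj_mem_commutator_left {H K : Subgroup G} {y : G} (hy : y ∈ H) {x : G} (hx : x ∈ ⁅H, K⁆) :
    y * x * y⁻¹ ∈ ⁅H, K⁆ := by
  rw [Subgroup.commutator_def] at hx
  induction hx using Subgroup.closure_induction with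
  | mem x hx =>
    obtain ⟨h, hh, k, hk, rfl⟩ := hx
    have h1 : y * ⁅h, k⁆ * y⁻¹ = ⁅y * h, k⁆ * ⁅y, k⁆⁻¹ := by
      simp only [commutatorElement_def]; group
    rw [h1]
    exact Subgroup.mul_mem _ (Subgroup.commutator_mem_commutator (H.mul_mem hy hh) hk)
      (Subgroup.inv_mem _ (Subgroup.commutator_mem_commutator hy hk))
  | one => simp
  | mul a b _ _ ha hb =>
    have : y * (a * b) * y⁻¹ = (y * a * y⁻¹) * (y * b * y⁻¹) := by group
    rw [this]; exact Subgroup.mul_mem _ ha hb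
  | inv a _ ha =>
    have : y * a⁻¹ * y⁻¹ = (y * a * y⁻¹)⁻¹ := by group
    rw [this]; exact Subgroup.inv_mem _ ha

/-- In a finite `p`-group `W`, a subgroup `Q ≤ W` with `⁅Q, W⁆ = Q` is trivial. -/
theorem eq_bot_of_commutator_eq_self [Finite G] {p : ℕ} [Fact p.Prime] (W Q : Subgroup G)
    (hW : IsPGroup p W) (hQW : Q ≤ W) (h : Q ≤ ⁅Q, W⁆) : Q = ⊥ := by
  have hnil : Group.IsNilpotent W := hW.isNilpotent
  obtain ⟨n, hn⟩ := (Subgroup.isNilpotent_iff_lowerCentralSeries W).mp hnil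
  have key : ∀ k, Q ≤ W.lowerCentralSeries k := by
    intro k
    induction k with
    | zero => exact hQW
    | succ k ih =>
      refine h.trans ?_
      rw [Subgroup.lowerCentralSeries_succ]
      exact Subgroup.commutator_mono ih le_rfl
  have h1 := key n
  rwa [hn, le_bot_iff] at h1

end Cfsg.Agent.Lib.Helper54
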