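import Cfsg.Agent.Lib.Lead.HKK.Basic

/-!
# Ladder HKK, rung KK3 (Kreknin - Kostrikin reduction), with the step lemma as a hypothesis
-/

set_option autoImplicit false

namespace Cfsg.Agent.Lib.Helper54.HKK

open Cfsg.Agent.Lib.Lead.HKK

variable {L : Type*} [LieRing L] {n : ℕ}

/-- the members of the lower central family of `der K` are ideals of `K` -/
theorem gam_der_ideal (K : ZMod n → AddSubgroup L) (hK : IsGr K) (k : ℕ) :
    ∀ (a b : ZMod n) (x y : L), x ∈ gam (der K) k a → y ∈ K b → ⁅x, y⁆ ∈ gam (der K) k (a + b) := by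
  induction k with
  | zero =>
    intro a b x y hx hy
    exact mem_brk (hK.der_le a hx) hy
  | succ k ih =>
    intro a b x y hx hy
    change x ∈ brk (gam (der K) k) (der K) a at hx
    show ⁅x, y⁆ ∈ brk (gam (der K) k) (der K) (a + b)
    induction hx using AddSubgroup.closure_induction with
    | mem w hw =>
      obtain ⟨a1, a2, u, m, rfl, hu, hm, rfl⟩ := hw
      have e : ⁅⁅u, m⁆, y⁆ = ⁅⁅u, y⁆, m⁆ + ⁅u, ⁅m, y⁆⁆ := by
        rw [lie_lie u m y, ← lie_skew ⁅u, y⁆ m]
        abel
      rw [e]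
      refine add_mem ?_ ?_
      · exact mem_brk' (ih a1 b u y hu hy) hm (by abel)
      · exact mem_brk' hu (mem_brk (A := K) (B := K) (hK.der_le a2 hm) hy) (by abel)
    | zero => rw [zero_lie]; exact zero_mem _
    | add u v _ _ hu hv => rw [add_lie]; exact add_mem hu hv
    | neg u _ hu => rw [neg_lie]; exact neg_mem hu

/-- `gam K (m + r)` is spanned by the left normed brackets of length `r` starting in `gam K m` -/
theorem gam_add_le (K : ZMod n → AddSubgroup L) (I : AddSubgroup L) (r : ℕ) :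
    ∀ (m : ℕ), (∀ (b : ZMod n) (x : L) (l : List (ZMod n × L)), x ∈ gam K m b → l.length = r →
      (∀ q ∈ l, q.2 ∈ K q.1) → lnb x (l.map Prod.snd) ∈ I) → ∀ i, gam K (m + r) i ≤ I := by
  induction r with
  | zero =>
    intro m h i x hx
    simpa using h i x [] hx rfl (by simp)
  | succ r ih =>
    intro m h i
    have e : m + (r + 1) = (m + 1) + r := by omega
    rw [e]
    refine ih (m + 1) ?_ i
    intro b x l hx hl hlK
    change x ∈ brk (gam K m) K b at hx
    induction hx using AddSubgroup.closure_induction with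
    | mem w hw =>
      obtain ⟨a1, a2, u, y, rfl, hu, hy, rfl⟩ := hw
      have := h a1 u ((a2, y) :: l) hu (by simp [hl]) (by
        intro q hq
        rcases List.mem_cons.mp hq with rfl | hq
        · exact hy
        · exact hlK q hq)
      simpa using this
    | zero => rw [lnb_zero]; exact zero_mem _
    | add u v _ _ hu hv => rw [lnb_add]; exact add_mem hu hv
    | neg u _ hu => rw [lnb_neg]; exact neg_mem hu

/-- the statement of rung KK2 for a fixed Lie ring and prime -/
def StepHyp (L : Type*) [LieRing L] (p : ℕ) : Prop :=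
  ∀ (K : ZMod p → AddSubgroup L) (_ : IsGr K) (J : ZMod p → AddSubgroup L) (I : AddSubgroup L)
    (_ : ∀ i, J i ≤ K i)
    (_ : ∀ (a b : ZMod p) (x y : L), x ∈ J a → y ∈ K b → ⁅x, y⁆ ∈ J (a + b))
    (_ : ∀ (a b c : ZMod p) (x y z : L), x ∈ J a → y ∈ K b → z ∈ K c → ⁅x, ⁅y, z⁆⁆ ∈ I)
    (_ : ∀ (a : ZMod p) (x y : L), x ∈ I → y ∈ K a → ⁅x, y⁆ ∈ I) (b : ZMod p) (x : L)
    (_ : x ∈ J b) (l : List (ZMod p × L)) (_ : l.length = p - 1)
    (_ : ∀ q ∈ l, q.2 ∈ K q.1), lnb x (l.map Prod.snd) ∈ I

theorem gam_le_iSup_gam_der {p : ℕ} (hstep : StepHyp L p) (K : ZMod p → AddSubgroup L)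
    (hK : IsGr K) (k : ℕ) : ∀ i, gam K (1 + (p - 1) * k) i ≤ ⨆ j, gam (der K) k j := by
  induction k with
  | zero =>
    intro i
    exact le_iSup (fun j => gam (der K) 0 j) i
  | succ k ih =>
    have e : 1 + (p - 1) * (k + 1) = (1 + (p - 1) * k) + (p - 1) := by ring
    rw [e]
    refine gam_add_le K _ (p - 1) _ ?_
    intro b x l hx hl hlK
    have hx' := ih b hx
    refine AddSubgroup.iSup_induction (fun j => gam (der K) k j)
      (C := fun x => lnb x (l.map Prod.snd) ∈ ⨆ j, gam (der K) (k + 1) j) hx' ?_ ?_ ?_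
    · intro j x hxj
      refine hstep K hK (gam (der K) k) _ ?_ (gam_der_ideal K hK k) ?_ ?_ j x hxj l hl hlK
      · intro i
        exact (hK.der.gam_le k i).trans (hK.der_le i)
      · intro a b c x y z hx hy hz
        have h1 : ⁅x, ⁅y, z⁆⁆ ∈ gam (der K) (k + 1) (a + (b + c)) :=
          mem_brk (A := gam (der K) k) (B := der K) hx (mem_brk (A := K) (B := K) hy hz)
        exact (le_iSup (fun j => gam (der K) (k + 1) j) _) h1
      · intro a x y hx hy
        refine AddSubgroup.iSup_induction (fun j => gam (der K) (k + 1) j)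
          (C := fun x => ⁅x, y⁆ ∈ ⨆ j, gam (der K) (k + 1) j) hx ?_ ?_ ?_
        · intro j x hxj
          exact (le_iSup (fun j => gam (der K) (k + 1) j) _)
            (gam_der_ideal K hK (k + 1) j a x y hxj hy)
        · show ⁅(0 : L), y⁆ ∈ _
          rw [zero_lie]; exact zero_mem _
        · intro u v hu hv
          show ⁅u + v, y⁆ ∈ _
          rw [add_lie]; exact add_mem hu hv
    · show lnb 0 _ ∈ _
      rw [lnb_zero]; exact zero_mem _
    · intro u v hu hv
      show lnb (u + v) _ ∈ _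
      rw [lnb_add]; exact add_mem hu hv

theorem kk_of_step {p : ℕ} (hstep : StepHyp L p) (K : ZMod p → AddSubgroup L) (hK : IsGr K) (s : ℕ)
    (hs : ∀ i, (der^[s] K) i = ⊥) : ∀ i, gam K (xi p s) i = ⊥ := by
  induction s generalizing K with
  | zero => exact hs
  | succ s ih =>
    intro i
    rw [Function.iterate_succ_apply] at hs
    have h1 := ih (der K) hK.der hs
    rw [xi_succ, eq_bot_iff]
    refine (gam_le_iSup_gam_der hstep K hK (xi p s) i).trans ?_
    simp [h1]

end Cfsg.Agent.Lib.Helper54.HKK
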