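import Cfsg.Agent.Lib.Lead.HKK.Basic

/-!
# Ladder HKK, rung P3: a `ZMod 3`-graded family with zero `0`-component has class at most 2
-/

set_option autoImplicit false

namespace Cfsg.Agent.Lib.Helper54.HKK

open Cfsg.Agent.Lib.Lead.HKK

theorem three_cases : ∀ a b c : ZMod 3, a = 0 ∨ b = 0 ∨ c = 0 ∨ a + b = 0 ∨ a + b + c = 0 ∨
    (b + c = 0 ∧ a + c = 0) := by decide

theorem lie_lie_eq_zero_of_three {L : Type*} [LieRing L] (K : ZMod 3 → AddSubgroup L) (hK : IsGr K)
    (a b c : ZMod 3) (x y z : L) (hx : x ∈ K a) (hy : y ∈ K b) (hz : z ∈ K c) :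
    ⁅⁅x, y⁆, z⁆ = 0 := by
  rcases three_cases a b c with h | h | h | h | h | ⟨h1, h2⟩
  · subst h; rw [hK.eq_zero hx, zero_lie, zero_lie]
  · subst h; rw [hK.eq_zero hy, lie_zero, zero_lie]
  · subst h; rw [hK.eq_zero hz, lie_zero]
  · have := hK.lie a b x y hx hy
    rw [h] at this
    rw [hK.eq_zero this, zero_lie]
  · have := hK.lie (a + b) c _ z (hK.lie a b x y hx hy) hz
    rw [h] at this
    exact hK.eq_zero this
  · have e1 := hK.lie b c y z hy hz
    have e2 := hK.lie a c x z hx hz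
    rw [h1] at e1
    rw [h2] at e2
    rw [lie_lie, hK.eq_zero e1, hK.eq_zero e2, lie_zero, lie_zero, sub_zero]

theorem gam_two_of_three {L : Type*} [LieRing L] (K : ZMod 3 → AddSubgroup L) (hK : IsGr K) :
    ∀ i, gam K 2 i = ⊥ := by
  intro i
  rw [eq_bot_iff]
  show brk (brk K K) K i ≤ ⊥
  refine brk_le (C := fun _ => ⊥) ?_ i
  intro a c w z hw hz
  show ⁅w, z⁆ ∈ (⊥ : AddSubgroup L)
  rw [AddSubgroup.mem_bot]
  induction hw using AddSubgroup.closure_induction with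
  | mem w hw =>
    obtain ⟨a1, a2, x, y, -, hx, hy, rfl⟩ := hw
    exact lie_lie_eq_zero_of_three K hK a1 a2 c x y z hx hy hz
  | zero => exact zero_lie z
  | add u v _ _ hu hv => rw [add_lie, hu, hv, add_zero]
  | neg u _ hu => rw [neg_lie, hu, neg_zero]

end Cfsg.Agent.Lib.Helper54.HKK
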