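import Mathlib.GroupTheory.Sylow
import Mathlib.GroupTheory.Nilpotent
import Mathlib.GroupTheory.Frattini
import Mathlib.GroupTheory.Perm.Cycle.Type

set_option autoImplicit false

namespace Cfsg.Agent.Lib.Helper54

/-- A maximal subgroup of a finite `p`-group has index `p`. -/
theorem index_eq_of_isCoatom_of_isPGroup {G : Type*} [Group G] [Finite G] {p : ℕ} [Fact p.Prime]
    (hG : IsPGroup p G) {M : Subgroup G} (hM : IsCoatom M) : M.index = p := by
  obtain ⟨n, hn⟩ := (hG.to_subgroup M).exists_card_eq
  obtain ⟨m, hm⟩ := hG.exists_card_eq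
  have hp : p.Prime := Fact.out
  have hlt : Nat.card M < Nat.card G := by
    have hidx : M.index ≠ 1 := fun h => hM.1 (Subgroup.index_eq_one.mp h)
    have h0 : M.index ≠ 0 := Subgroup.index_ne_zero_of_finite
    have := M.card_mul_index
    have hpos : 0 < Nat.card M := Nat.card_pos
    have h2 : 2 ≤ M.index := by omega
    nlinarith
  have hnm : n < m := by
    rw [hn, hm] at hlt
    exact (Nat.pow_lt_pow_iff_right hp.one_lt).mp hlt
  have hdvd : p ^ (n + 1) ∣ Nat.card G := by
    rw [hm]; exact pow_dvd_pow _ hnm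
  obtain ⟨K, hK, hMK⟩ := Sylow.exists_subgroup_card_pow_succ hdvd hn
  have hKtop : K = ⊤ := by
    apply hM.2
    refine lt_of_le_of_ne hMK ?_
    intro h
    rw [← h, hn] at hK
    exact absurd hK (Nat.pow_lt_pow_right hp.one_lt (Nat.lt_succ_self n)).ne
  have h3 := M.card_mul_index
  rw [hKtop, Subgroup.card_top] at hK
  rw [hK, hn, pow_succ] at h3
  exact Nat.eq_of_mul_eq_mul_left (pow_pos hp.pos n) h3

/-- A maximal subgroup of a finite `p`-group is normal. -/
theorem normal_of_isCoatom_of_isPGroup {G : Type*} [Group G] [Finite G] {p : ℕ} [Fact p.Prime]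
    (hG : IsPGroup p G) {M : Subgroup G} (hM : IsCoatom M) : M.Normal := by
  have := hG.isNilpotent
  exact Subgroup.NormalizerCondition.normal_of_coatom M Group.normalizerCondition_of_isNilpotent hM

theorem mem_frattini_iff_forall_coatom {G : Type*} [Group G] (x : G) :
    x ∈ frattini G ↔ ∀ M : Subgroup G, IsCoatom M → x ∈ M := by
  simp [frattini, Order.radical, Subgroup.mem_iInf]

open Equiv.Perm in
/-- The sign of an involutory permutation moving `2 * c` points is `(-1) ^ c`. -/
theorem sign_eq_neg_one_pow_of_sq_eq_one {α : Type*} [DecidableEq α] [Fintype α] (σ : Equiv.Perm α)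
    (h2 : σ ^ 2 = 1) (c : ℕ) (hc : σ.support.card = 2 * c) :
    Equiv.Perm.sign σ = (-1) ^ c := by
  have hsum : σ.cycleType.sum = 2 * c := by
    rw [sum_cycleType, hc]
  have hall : ∀ b ∈ σ.cycleType, b = 2 := by
    intro b hb
    have h1 : b ∣ 2 := (dvd_of_mem_cycleType hb).trans (orderOf_dvd_of_pow_eq_one h2)
    have h3 : 2 ≤ b := two_le_of_mem_cycleType hb
    exact le_antisymm (Nat.le_of_dvd (by norm_num) h1) h3
  have hrep : σ.cycleType = Multiset.replicate (Multiset.card σ.cycleType) 2 :=
    Multiset.eq_replicate.mpr ⟨rfl, hall⟩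
  have hk : Multiset.card σ.cycleType = c := by
    rw [hrep, Multiset.sum_replicate, smul_eq_mul] at hsum
    omega
  rw [sign_of_cycleType, hsum, hk, pow_add, pow_mul]
  simp

end Cfsg.Agent.Lib.Helper54
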